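import Cfsg.Agent.H766.PQ.A01
import Cfsg.Agent.H709.PB.Deg
import Cfsg.Agent.S0960
import Cfsg.Agent.SmallSimple.BurnsideNC

/-!
# S4612, sporadic rows: the kills (helper894)

* `kill` : an irreducible character of `q`-defect zero and of degree not divisible by `p ^ a`, where the irreducible
  characters outside the principal `p`-block have degree divisible by `p ^ a` (`NB p a G`);
* `kill_count` : both Sylow subgroups of prime order and `e + (p - 1) / e ≠ f + (q - 1) / f`.
-/

set_option autoImplicit false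

open Cfsg

namespace Cfsg.Agent.H894.PQ

open Cfsg.Agent.H317.PQ Cfsg.Agent.H709.PB Cfsg.Agent.H766.PQ

universe u

variable {G : Type u} [Group G] [Finite G]

/-- An irreducible character of `q`-defect zero in the principal `p`-block. -/
theorem kill {p q a b d : ℕ} (hp : p.Prime) (hq : q.Prime) (h : NB p a G) {χ : IrrCharacter G}
    (hd : charDegree (χ : G → ℂ) = d) (h1 : ¬ p ^ a ∣ d) (hb : b ≠ 0) (hqd : q ^ b ∣ d) (hG : q ^ b ∣ Nat.card G)
    (hG' : ¬ q ^ (b + 1) ∣ Nat.card G) : ¬ Same p q G := by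
  intro hS
  have hpF : Fact p.Prime := ⟨hp⟩
  obtain ⟨M, hM⟩ := Blocks.ExistsModular.exists_isPModular hp
  have h2 : χ ∈ B0 p G := by
    rw [B0_eq hp hM]
    by_contra h3
    exact h1 (hd ▸ h M hM χ h3)
  have h3 : χ ∈ B0 q G := by
    have h4 : B0 p G = B0 q G := hS
    rwa [h4] at h2
  have hG0 : Nat.card G ≠ 0 := Nat.card_pos.ne'
  have h4 := not_defect_zero hq ((dvd_pow_self q hb).trans hG) h3
  have h5 : (Nat.card G).factorization q < b + 1 := by
    by_contra h6
    exact hG' ((hq.pow_dvd_iff_le_factorization hG0).2 (by omega))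
  have hd0 : d ≠ 0 := by
    rintro rfl
    exact h1 (dvd_zero _)
  rw [hd] at h4
  have h6 := (hq.pow_dvd_iff_le_factorization hd0).1 hqd
  omega

/-- the number of irreducible characters of the principal block -/
theorem exists_count {p : ℕ} (hp : p.Prime) (h2 : p ≠ 2) (hG : p ∣ Nat.card G) (hG' : ¬ p ^ 2 ∣ Nat.card G) :
    ∃ e, e ∣ p - 1 ∧ Nat.card (B0 p G) = e + (p - 1) / e := by
  have hpF : Fact p.Prime := ⟨hp⟩
  obtain ⟨M, hM⟩ := Blocks.ExistsModular.exists_isPModular hp
  obtain ⟨P⟩ : Nonempty (Sylow p G) := inferInstance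
  have hP : Nat.card P = p := by
    rw [P.card_eq_multiplicity]
    have h3 : (Nat.card G).factorization p = 1 := by
      have h4 := (hp.dvd_iff_one_le_factorization Nat.card_pos.ne').1 hG
      have h5 : ¬ 2 ≤ (Nat.card G).factorization p := fun h6 =>
        hG' ((hp.pow_dvd_iff_le_factorization Nat.card_pos.ne').2 h6)
      omega
    rw [h3, pow_one]
  refine ⟨(Subgroup.centralizer ((P : Subgroup G) : Set G)).relIndex
    (Subgroup.normalizer ((P : Subgroup G) : Set G)), ?_, ?_⟩
  · exact Cfsg.Agent.SmallSimple.BurnsideNC.relIndex_dvd_of_card_eq_prime P hP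
  · rw [B0_eq hp hM]
    exact (Cfsg.Agent.S0960.result p M hM h2 P hP _ rfl).1

theorem kill_count {p q : ℕ} (hp : p.Prime) (hq : q.Prime) (hp2 : p ≠ 2) (hq2 : q ≠ 2) (hpG : p ∣ Nat.card G)
    (hpG' : ¬ p ^ 2 ∣ Nat.card G) (hqG : q ∣ Nat.card G) (hqG' : ¬ q ^ 2 ∣ Nat.card G)
    (h : ∀ e < p, ∀ f < q, e ∣ p - 1 → f ∣ q - 1 → e + (p - 1) / e ≠ f + (q - 1) / f) : ¬ Same p q G := by
  intro hS
  obtain ⟨e, he, h1⟩ := exists_count hp hp2 hpG hpG'
  obtain ⟨f, hf, h2⟩ := exists_count hq hq2 hqG hqG'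
  have h3 : B0 p G = B0 q G := hS
  rw [h3, h2] at h1
  have e1 := Nat.le_of_dvd (by have := hp.two_le; omega) he
  have f1 := Nat.le_of_dvd (by have := hq.two_le; omega) hf
  exact h e (by have := hp.two_le; omega) f (by have := hq.two_le; omega) he hf h1.symm

end Cfsg.Agent.H894.PQ
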