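import Cfsg.Agent.H894.PQ.Tools
import Cfsg.Agent.H491.PB.Th
import Cfsg.Agent.H399.Two.Th
import Cfsg.Agent.H894.ThLine.Num

/-!
# S4612: the row of the Thompson group (helper894)

Degrees `30875 = 5^3 13 19`, `61256 = 2^3 13 19 31`, `d * 28861000` (`28861000 = 2^3 5^3 7^2 19 31`), `d * 30507008`
(`30507008 = 2^15 7^2 19`) and the sets `NB` of helper491.
-/

set_option autoImplicit false

open Cfsg

namespace Cfsg.Agent.H894.PQ.Th

open Cfsg.Agent.H317.PQ Cfsg.Agent.H709.PB Cfsg.Agent.H894.PQ Cfsg.Agent.H502.TO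

universe u

theorem card_th : Nat.card Spor.Th = 90745943887872000 := Cfsg.Agent.Th.Final.card_Th

theorem fin_th : Finite Spor.Th := Cfsg.Agent.Th.Final.finite_Th

theorem nb_19 : NB 19 1 Spor.Th := by
  have := fin_th
  have : Fact (Nat.Prime 19) := ⟨by norm_num⟩
  obtain ⟨y, hy⟩ := exists_prime_orderOf_dvd_card' (G := Spor.Th) 19 (by rw [card_th]; norm_num)
  exact NB.of_self (g := y) (IsPGroup.of_card (n := 1) (by rw [H491.PB.Th.card_nineteen hy, pow_one]))
    ⟨1, by rw [hy, pow_one]⟩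

/-- a multiple of a known degree -/
theorem bound {χ : IrrCharacter Spor.Th} {d D : ℕ} (h : charDegree (χ : Spor.Th → ℂ) = d * D) (hD : 301240675 ≤ D * 11) :
    d ≠ 0 ∧ d < 11 := by
  have := fin_th
  constructor
  · rintro rfl
    rw [zero_mul] at h
    have h1 := Cfsg.Agent.Blocks.Basic.charDegree_pos χ.2
    omega
  · by_contra hd
    have h1 := sq_le χ
    rw [h, card_th] at h1
    have h2 : 301240675 ≤ d * D := hD.trans (by rw [mul_comm]; exact Nat.mul_le_mul_right D (by omega))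
    have h3 : 301240675 ^ 2 ≤ (d * D) ^ 2 := Nat.pow_le_pow_left h2 2
    norm_num at h3
    omega

theorem primes {q : ℕ} (hq : q.Prime) (hd : q ∣ Nat.card Spor.Th) :
    q = 2 ∨ q = 3 ∨ q = 5 ∨ q = 7 ∨ q = 13 ∨ q = 19 ∨ q = 31 := by
  rw [card_th] at hd
  exact H491.PB.Th.prime_cases hq hd

/-- `30875 = 5 ^ 3 * 13 * 19` -/
theorem ka {p q a b : ℕ} (hp : p.Prime) (hq : q.Prime) (h : NB p a Spor.Th) (h1 : ¬ p ^ a ∣ 30875) (hb : b ≠ 0)
    (hqd : q ^ b ∣ 30875) (hG : q ^ b ∣ 90745943887872000) (hG' : ¬ q ^ (b + 1) ∣ 90745943887872000) :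
    ¬ Same p q Spor.Th := by
  have := fin_th
  obtain ⟨χ, hχ⟩ := H399.Two.Th.deg_b
  exact kill hp hq h hχ h1 hb hqd (by rw [card_th]; exact hG) (by rw [card_th]; exact hG')

/-- `61256 = 2 ^ 3 * 13 * 19 * 31` -/
theorem kb {p q a b : ℕ} (hp : p.Prime) (hq : q.Prime) (h : NB p a Spor.Th) (h1 : ¬ p ^ a ∣ 61256) (hb : b ≠ 0)
    (hqd : q ^ b ∣ 61256) (hG : q ^ b ∣ 90745943887872000) (hG' : ¬ q ^ (b + 1) ∣ 90745943887872000) :
    ¬ Same p q Spor.Th := by
  have := fin_th
  obtain ⟨χ, hχ⟩ := H399.Two.Th.deg_a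
  exact kill hp hq h hχ h1 hb hqd (by rw [card_th]; exact hG) (by rw [card_th]; exact hG')

/-- `28861000 = 2 ^ 3 * 5 ^ 3 * 7 ^ 2 * 19 * 31` -/
theorem kc {p q a b : ℕ} (hp : p.Prime) (hq : q.Prime) (h : NB p a Spor.Th)
    (h1 : ∀ d < 11, d ≠ 0 → ¬ p ^ a ∣ d * 28861000) (hb : b ≠ 0)
    (hqd : q ^ b ∣ 28861000) (hG : q ^ b ∣ 90745943887872000) (hG' : ¬ q ^ (b + 1) ∣ 90745943887872000) :
    ¬ Same p q Spor.Th := by
  have := fin_th
  obtain ⟨χ, d, hχ⟩ := ThLine.deg18
  obtain ⟨h2, h3⟩ := bound hχ (by norm_num)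
  exact kill hp hq h hχ (h1 d h3 h2) hb (hqd.trans (dvd_mul_left _ _)) (by rw [card_th]; exact hG) (by rw [card_th]; exact hG')

/-- `30507008 = 2 ^ 15 * 7 ^ 2 * 19` -/
theorem kd {p q a b : ℕ} (hp : p.Prime) (hq : q.Prime) (h : NB p a Spor.Th)
    (h1 : ∀ d < 11, d ≠ 0 → ¬ p ^ a ∣ d * 30507008) (hb : b ≠ 0)
    (hqd : q ^ b ∣ 30507008) (hG : q ^ b ∣ 90745943887872000) (hG' : ¬ q ^ (b + 1) ∣ 90745943887872000) :
    ¬ Same p q Spor.Th := by
  have := fin_th
  obtain ⟨χ, d, hχ⟩ := ThLine.deg45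
  obtain ⟨h2, h3⟩ := bound hχ (by norm_num)
  exact kill hp hq h hχ (h1 d h3 h2) hb (hqd.trans (dvd_mul_left _ _)) (by rw [card_th]; exact hG) (by rw [card_th]; exact hG')

theorem p13_19 : ¬ Same 13 19 Spor.Th := by
  have := fin_th
  refine kill_count (by norm_num) (by norm_num) (by norm_num) (by norm_num) (by rw [card_th]; norm_num)
    (by rw [card_th]; norm_num) (by rw [card_th]; norm_num) (by rw [card_th]; norm_num) ?_
  decide +kernel

theorem row : Row Spor.Th := by
  have := fin_th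
  apply Row.of_lt
  intro p q hp hq hpq hpG hqG
  rcases primes hp hpG with rfl | rfl | rfl | rfl | rfl | rfl | rfl <;>
    rcases primes hq hqG with rfl | rfl | rfl | rfl | rfl | rfl | rfl <;>
    first
      | (exfalso; revert hpq; decide)
      | skip
  · exact fun h => kd (b := 15) (by norm_num) (by norm_num) H491.PB.Th.nb_3 (by decide +kernel) (by norm_num) (by norm_num)
      (by norm_num) (by norm_num) h.symm
  · exact ka (b := 3) hp hq H491.PB.Th.nb_2 (by norm_num) (by norm_num) (by norm_num) (by norm_num) (by norm_num)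
  · exact kc (b := 2) hp hq H491.PB.Th.nb_2 (by decide +kernel) (by norm_num) (by norm_num) (by norm_num) (by norm_num)
  · exact ka (b := 1) hp hq H491.PB.Th.nb_2 (by norm_num) (by norm_num) (by norm_num) (by norm_num) (by norm_num)
  · exact ka (b := 1) hp hq H491.PB.Th.nb_2 (by norm_num) (by norm_num) (by norm_num) (by norm_num) (by norm_num)
  · exact kb (b := 1) hp hq H491.PB.Th.nb_2 (by norm_num) (by norm_num) (by norm_num) (by norm_num) (by norm_num)
  · exact ka (b := 3) hp hq H491.PB.Th.nb_3 (by norm_num) (by norm_num) (by norm_num) (by norm_num) (by norm_num)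
  · exact kc (b := 2) hp hq H491.PB.Th.nb_3 (by decide +kernel) (by norm_num) (by norm_num) (by norm_num) (by norm_num)
  · exact ka (b := 1) hp hq H491.PB.Th.nb_3 (by norm_num) (by norm_num) (by norm_num) (by norm_num) (by norm_num)
  · exact ka (b := 1) hp hq H491.PB.Th.nb_3 (by norm_num) (by norm_num) (by norm_num) (by norm_num) (by norm_num)
  · exact kb (b := 1) hp hq H491.PB.Th.nb_3 (by norm_num) (by norm_num) (by norm_num) (by norm_num) (by norm_num)
  · exact fun h => ka (b := 3) (by norm_num) (by norm_num) H491.PB.Th.nb_7 (by norm_num) (by norm_num) (by norm_num)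
      (by norm_num) (by norm_num) h.symm
  · exact kb (b := 1) hp hq H491.PB.Th.nb_5 (by norm_num) (by norm_num) (by norm_num) (by norm_num) (by norm_num)
  · exact kb (b := 1) hp hq H491.PB.Th.nb_5 (by norm_num) (by norm_num) (by norm_num) (by norm_num) (by norm_num)
  · exact kb (b := 1) hp hq H491.PB.Th.nb_5 (by norm_num) (by norm_num) (by norm_num) (by norm_num) (by norm_num)
  · exact ka (b := 1) hp hq H491.PB.Th.nb_7 (by norm_num) (by norm_num) (by norm_num) (by norm_num) (by norm_num)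
  · exact ka (b := 1) hp hq H491.PB.Th.nb_7 (by norm_num) (by norm_num) (by norm_num) (by norm_num) (by norm_num)
  · exact kb (b := 1) hp hq H491.PB.Th.nb_7 (by norm_num) (by norm_num) (by norm_num) (by norm_num) (by norm_num)
  · exact p13_19
  · exact fun h => ka (b := 1) (by norm_num) (by norm_num) H491.PB.Th.nb_31 (by norm_num) (by norm_num) (by norm_num)
      (by norm_num) (by norm_num) h.symm
  · exact fun h => ka (b := 1) (by norm_num) (by norm_num) H491.PB.Th.nb_31 (by norm_num) (by norm_num) (by norm_num)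
      (by norm_num) (by norm_num) h.symm

/-- **The row of the Thompson group.** -/
theorem row_th {S : Type u} [Group S] (h : Cfsg.Spor.IsoTh S) : Row S := by
  obtain ⟨e⟩ := h
  exact H766.PQ.Row.of_equiv e.symm row

end Cfsg.Agent.H894.PQ.Th
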