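import Cfsg.Agent.H894.PQ.HeckeCert
import Cfsg.Agent.H314.LyOrb.Deg
import Cfsg.Agent.H488.PQ.Tools

/-!
# S4612, row `Ly`: the lattice test on `Ly / G₂(5)` (helper894)
-/

set_option autoImplicit false

open Cfsg

namespace Cfsg.Agent.H894.PQ.Ly

open Cfsg.Agent.H317.PQ Cfsg.Agent.H593.IMFrame Cfsg.Agent.H894.PQ.Hecke Cfsg.Agent.Blocks.Basic
open Cfsg.Agent.H314.LyOrb Cfsg.Agent.Ly Cfsg.Agent.Ly.Setup Cfsg.Agent.H314.OrbCount Cfsg.Agent.Ly.Cent

/-- the certificates of uniqueness -/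
def CC : Fin 4 → Fin 5 → Fin 5 → ℚ :=
  ![![![0, 0, 0, 0, 0],
      ![1/19530, 0, 0, 0, 0],
      ![9674/414140625, 3213/2968750, 73/213750, -497/356250, 0],
      ![1856/579796875, 73/296875, 11/7125, -62/35625, 0],
      ![-5723/1104375000, -3139/11875000, -469/855000, 1241/1425000, 0]],
    ![![0, 0, 0, 0, 0],
      ![1/19530, 0, 0, 0, 0],
      ![9653/2957400000, 4431/5300000, 89/76320, -497/254400, 0],
      ![-21557/4140360000, -377/1060000, 11/5088, -89/50880, 0],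
      ![12701/11829600000, -473/21200000, -287/305280, 1031/1017600, 0]],
    ![![0, 0, 0, 0, 0],
      ![1/19530, 0, 0, 0, 0],
      ![-3383/857828125, 3573/7906250, 719/442750, -639/316250, 0],
      ![-6/15596875, -57/71875, 9/4025, -4/2875, 0],
      ![13819/20587875000, 6481/31625000, -1907/1771000, 1167/1265000, 0]],
    ![![0, 0, 0, 0, 0],
      ![1/19530, 0, 0, 0, 0],
      ![-2099/634725000, 9/162500, 149/81900, -71/39000, 0],
      ![269/25389000, -7/6500, 11/5460, -7/7800, 0],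
      ![-141/40300000, 253/650000, -347/327600, 113/156000, 0]]]

/-- the functionals -/
def αs : List (Fin 5 → ℚ) :=
  [![1/8835156, 31/5994, 3875/22311, 279/814, 155/324],
    ![1/8835156, 61/419580, 325/156177, 7/8140, -1/324],
    ![1/8835156, 91/1498500, -7/557775, -9/40700, 7/40500],
    ![1/8835156, 41/5244750, -13/86765, 27/101750, -1/8100],
    ![1/8835156, -1/74925, 53/1115550, -3/50875, 1/40500]]

/-- the principal character and the degrees 45694, 1534500, 3028266, 4226695 -/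
def dL : Fin 4 → ℕ := ![45694, 1534500, 3028266, 4226695]

theorem hC (l : Fin 4) (n j : Fin 5) : ∑ i, CC l n i * ((M i j : ℚ) - if i = j then θ l.succ else 0) =
    (if n = j then 1 else 0) - (if (0 : Fin 5) = j then V l.succ n else 0) := by
  revert l n j
  decide +kernel

theorem hV (l : Fin 4) (i : Fin 5) : ∑ j, (M i j : ℚ) * V l.succ j = θ l.succ * V l.succ i := by
  revert l i
  decide +kernel

theorem hd (l : Fin 4) : (dL l : ℚ) * ∑ j, (dd j : ℚ) * V l.succ j ^ 2 = 8835156 := by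
  revert l
  decide +kernel

theorem hV1 : V 0 = fun _ => 1 := by
  funext j
  fin_cases j <;> rfl

/-- five characters; a set which is integral at `p` -/
theorem exists_chi : ∃ χ : Fin 5 → IrrCharacter Cfsg.Spor.Ly, ((χ 0 : IrrCharacter Cfsg.Spor.Ly) : Cfsg.Spor.Ly → ℂ) = 1 ∧
    (∀ l : Fin 4, charDegree (χ l.succ : Cfsg.Spor.Ly → ℂ) = dL l) ∧
    ∀ p : ℕ, p.Prime → ∀ (C : Finset (Fin 5) → Prop) [DecidablePred C],
      (∀ S : Finset (Fin 5), 0 ∈ S → (∀ α ∈ αs, ¬ p ∣ (∑ l ∈ S, α l).den) → C S) →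
      ∃ S : Finset (Fin 5), (∀ l, l ∈ S ↔ χ l ∈ B0 p Cfsg.Spor.Ly) ∧ C S := by
  classical
  have hfin : Finite Cfsg.Spor.Ly := finite_ly
  have := Fintype.ofFinite Cfsg.Spor.Ly
  have := Fintype.ofFinite (Cfsg.Spor.Ly ⧸ psi.range)
  have hX : Nat.card (Cfsg.Spor.Ly ⧸ psi.range) = 8835156 := index_range
  obtain ⟨χ, h1, h2, h3⟩ := exists_sph_all sub_ly 1 0 (by show (QuotientGroup.mk (Setup.w 0) : _ ⧸ _) = _; rw [w_zero]) M
    (fun i j => by rw [cnt_symm sub_ly, cnt_M]) (fun l => θ l.succ) V hV1 (by intro l; fin_cases l <;> rfl) hV CC hC dL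
    (fun l => by rw [hX]; exact_mod_cast hd l)
  refine ⟨χ, h1, h3, fun p hp C _ hC => ?_⟩
  have : DecidableEq (Cfsg.Spor.Ly ⧸ psi.range) := Classical.decEq _
  exact force hp sub_ly (i0 := 0) (by show (QuotientGroup.mk (Setup.w 0) : _ ⧸ _) = _; rw [w_zero]) h2
    (by intro l; fin_cases l <;> rfl) αs (by decide +kernel) 0 (Cfsg.Agent.H488.PQ.triv_mem hp h1) C hC

set_option maxRecDepth 100000 in
theorem two (S : Finset (Fin 5)) (h0 : 0 ∈ S) (h : ∀ α ∈ αs, ¬ 2 ∣ (∑ l ∈ S, α l).den) :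
    2 ∈ S ∧ 4 ∈ S ∧ (1 ∈ S ↔ 3 ∈ S) := by
  revert S
  decide +kernel

set_option maxRecDepth 100000 in
theorem eleven (S : Finset (Fin 5)) (h0 : 0 ∈ S) (h : ∀ α ∈ αs, ¬ 11 ∣ (∑ l ∈ S, α l).den) : 3 ∈ S := by
  revert S
  decide +kernel

set_option maxRecDepth 100000 in
theorem thirtyseven (S : Finset (Fin 5)) (h0 : 0 ∈ S) (h : ∀ α ∈ αs, ¬ 37 ∣ (∑ l ∈ S, α l).den) : 1 ∈ S := by
  revert S
  decide +kernel

end Cfsg.Agent.H894.PQ.Ly
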