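import Cfsg.Agent.H766.PQ.A01
import Cfsg.Agent.S4710
import Cfsg.Agent.Blocks.Knorr
import Cfsg.Agent.Blocks.ExistsModular

/-!
# S4612: the height test (helper894)

`not_mem_height` : an irreducible character whose degree is divisible by `q ^ a`, `a ≠ 0`, where `q ^ (a + 2)` does not
divide the order of `G`, is not in the principal `q`-block (Brauer: the height is at most `d - 2`, S4710).
-/

set_option autoImplicit false

open Cfsg

namespace Cfsg.Agent.H894.PQ

open Cfsg.Agent.H317.PQ Cfsg.Agent.Blocks.Basic Cfsg.Agent.Blocks.Local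

universe u

theorem not_mem_height {G : Type u} [Group G] [Finite G] {q a : ℕ} (hq : q.Prime) {χ : IrrCharacter G} (ha : a ≠ 0)
    (h1 : q ^ a ∣ charDegree (χ : G → ℂ)) (h2 : ¬ q ^ (a + 2) ∣ Nat.card G) : χ ∉ B0 q G := by
  intro h
  have hqF : Fact q.Prime := ⟨hq⟩
  obtain ⟨M, hM⟩ := Blocks.ExistsModular.exists_isPModular hq
  have hMp : M.IsPrime := isPrime_of_isPModular hM
  have hG0 : Nat.card G ≠ 0 := Nat.card_pos.ne'
  have hdvd : charDegree (χ : G → ℂ) ∣ Nat.card G := Cfsg.Agent.Blocks.Knorr.charDegree_dvd χ.2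
  have hd0 : charDegree (χ : G → ℂ) ≠ 0 := fun h0 => hG0 (Nat.eq_zero_of_zero_dvd (h0 ▸ hdvd))
  have hn : a ≤ (charDegree (χ : G → ℂ)).factorization q := (hq.pow_dvd_iff_le_factorization hd0).1 h1
  have hv : (Nat.card G).factorization q < a + 2 := by
    by_contra h3
    exact h2 ((hq.pow_dvd_iff_le_factorization hG0).2 (by omega))
  have h3 := H766.PQ.not_defect_zero hq ((dvd_pow_self q ha).trans (h1.trans hdvd)) h
  have hinf : sInf ((fun ψ : IrrCharacter G => (charDegree (ψ : G → ℂ)).factorization q) '' principalBlock M G) = 0 := by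
    apply Nat.eq_zero_of_le_zero
    refine Nat.sInf_le ⟨⟨_, isIrrCharacter_one⟩, ?_, ?_⟩
    · exact sameBlock_refl _
    · have h4 : charDegree (fun _ : G => (1 : ℂ)) = 1 := by
        unfold charDegree
        simp
      show (charDegree (fun _ : G => (1 : ℂ))).factorization q = 0
      rw [h4, Nat.factorization_one]
      rfl
  have hdef : blockDefect q (principalBlock M G) = (Nat.card G).factorization q := by
    rw [blockDefect_def, hinf, Nat.sub_zero]
  have h5 := ((S4710.result q M hM (principalBlock M G) ⟨⟨_, isIrrCharacter_one⟩, rfl⟩ _ hdef).2 χ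
    (by rwa [B0_eq hq hM] at h)).2 (by omega)
  unfold blockHeight at h5
  rw [hinf, Nat.sub_zero] at h5
  omega

end Cfsg.Agent.H894.PQ
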