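import Cfsg.Agent.H488.PQ.Alt

/-!
# S4612: `PQ 2 5` fails for `A₅` and `A₁₁` (helper894)

`A₅` is normal in the centralizer of an element of type `4 · 2 · 1⁵` of `A₁₁`.
-/

set_option autoImplicit false

open Cfsg Cfsg.Agent

namespace Cfsg.Agent.H894.PQ.AltFive

open Cfsg.Agent.H317.PQ Cfsg.Agent.Blocks.Basic Cfsg.Agent.H358.A3 Cfsg.Agent.H488.PQ Equiv

theorem comm55 : ∀ c : Perm (Fin 5), c * (c[0, 1, 2, 3, 4] : Perm (Fin 5)) = c[0, 1, 2, 3, 4] * c → c ^ 5 = 1 := by
  decide +kernel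

theorem sign55 : (c[0, 1, 2, 3, 4] : Perm (Fin 5)) ∈ alternatingGroup (Fin 5) := by
  rw [Perm.mem_alternatingGroup]; decide

theorem card_a5 : Nat.card (alternatingGroup (Fin 5)) = 60 := by
  have h := nat_card_alternatingGroup (α := Fin 5)
  rw [h, Nat.card_eq_fintype_card, Fintype.card_fin]
  decide

/-- `PQ 2 5 A₅` fails. -/
theorem a5_kill : ¬ PQ 2 5 (alternatingGroup (Fin 5)) := by
  obtain ⟨χ, hχ⟩ := Cfsg.Agent.H600.EightAlt.mem_gen (n := 3) (β := ![0, 2, 6]) (d := 4) (by decide) (by decide)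
    (by decide +kernel) (by decide +kernel)
  have hχ' : charDegree (χ : alternatingGroup (Fin 5) → ℂ) = 4 := hχ
  obtain ⟨h1, h2⟩ := isPGroup_closure
    ({⟨_, sign55⟩} : Set (alternatingGroup (Fin 5))) (fun c h => Subtype.ext
      (comm55 c (congrArg Subtype.val (h _ rfl)))) (by
        rintro a rfl b rfl
        rfl)
  exact not_PQ (χ := χ) Nat.prime_two Nat.prime_five h1 h2 (by rw [hχ']; norm_num) (b := 2) (by norm_num)
    (by rw [hχ']; norm_num) (by rw [card_a5]; norm_num)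

/-- `x` of type `4 · 2` -/
def x : Perm (Fin 11) := (c[5, 6, 7, 8] : Perm (Fin 11)) * c[9, 10]

theorem sign_x : x ∈ alternatingGroup (Fin 11) := by
  rw [Perm.mem_alternatingGroup]; decide

theorem x_fix : ∀ i : Fin 11, (i : ℕ) < 5 → x i = i := by decide

theorem x_mov : ∀ i : Fin 11, 5 ≤ (i : ℕ) → x i ≠ i := by decide

theorem x_ge : ∀ i : Fin 11, 5 ≤ (i : ℕ) → 5 ≤ ((x i : Fin 11) : ℕ) := by decide

theorem x_four : x ^ 4 = 1 := by decide +kernel

/-- the even permutations of the first five points -/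
def L11 : Subgroup (alternatingGroup (Fin 11)) where
  carrier := {g | ∀ i : Fin 11, 5 ≤ (i : ℕ) → (g : Perm (Fin 11)) i = i}
  one_mem' := fun i _ => rfl
  mul_mem' := by
    intro a b ha hb i hi
    show (a : Perm (Fin 11)) ((b : Perm (Fin 11)) i) = i
    rw [hb i hi, ha i hi]
  inv_mem' := by
    intro a ha i hi
    show ((a : Perm (Fin 11))⁻¹) i = i
    rw [Perm.inv_eq_iff_eq]
    exact (ha i hi).symm

abbrev P5 : Type := {i : Fin 11 // (i : ℕ) < 5}

theorem lt_iff {g : alternatingGroup (Fin 11)} (hg : g ∈ L11) (i : Fin 11) :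
    (((g : Perm (Fin 11)) i : Fin 11) : ℕ) < 5 ↔ (i : ℕ) < 5 := by
  constructor
  · intro h
    by_contra h1
    rw [hg i (by omega)] at h
    exact h1 h
  · intro h
    by_contra h1
    have h2 := hg _ (not_lt.1 h1)
    have h3 := (g : Perm (Fin 11)).injective h2
    rw [h3] at h1
    exact h1 h

theorem sub_of {g : alternatingGroup (Fin 11)} (hg : g ∈ L11) (i : Fin 11) (h : (g : Perm (Fin 11)) i ≠ i) :
    (i : ℕ) < 5 := by
  by_contra h1
  exact h (hg i (by omega))

/-- restriction to the first five points -/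
def f11 : L11 →* alternatingGroup P5 where
  toFun g := ⟨(g.1 : Perm (Fin 11)).subtypePerm (fun i => lt_iff g.2 i), by
    rw [Perm.mem_alternatingGroup, Perm.sign_subtypePerm _ _ (sub_of g.2)]
    exact Perm.mem_alternatingGroup.1 g.1.2⟩
  map_one' := rfl
  map_mul' _ _ := rfl

theorem f11_bij : Function.Bijective f11 := by
  constructor
  · rw [injective_iff_map_eq_one]
    intro g hg
    apply Subtype.ext
    apply Subtype.ext
    ext i
    show ((g.1 : Perm (Fin 11)) i : ℕ) = i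
    by_cases hi : (i : ℕ) < 5
    · have h1 := congrArg (fun k : alternatingGroup P5 => (((k : Perm P5) ⟨i, hi⟩ : P5) : Fin 11)) hg
      exact congrArg Fin.val h1
    · rw [g.2 i (by omega)]
  · intro k
    have h1 : Perm.ofSubtype (k : Perm P5) ∈ alternatingGroup (Fin 11) := by
      rw [Perm.mem_alternatingGroup, Perm.sign_ofSubtype]
      exact Perm.mem_alternatingGroup.1 k.2
    have h2 : (⟨_, h1⟩ : alternatingGroup (Fin 11)) ∈ L11 := by
      intro i hi
      exact Perm.ofSubtype_apply_of_not_mem _ (by omega)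
    refine ⟨⟨_, h2⟩, ?_⟩
    apply Subtype.ext
    ext i
    show ((Perm.ofSubtype (k : Perm P5) (i : Fin 11) : Fin 11) : ℕ) = _
    rw [Perm.ofSubtype_apply_coe]

/-- the first five points -/
def e5 : P5 ≃ Fin 5 where
  toFun i := ⟨i.1, i.2⟩
  invFun i := ⟨⟨i, by omega⟩, i.2⟩
  left_inv _ := rfl
  right_inv _ := rfl

theorem order_x : orderOf (⟨_, sign_x⟩ : alternatingGroup (Fin 11)) ∣ 2 ^ 2 := by
  refine orderOf_dvd_of_pow_eq_one (Subtype.ext ?_)
  show x ^ (2 ^ 2) = 1
  exact x_four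

/-- `PQ 2 5 A₁₁` fails. -/
theorem a11_kill : ¬ PQ 2 5 (alternatingGroup (Fin 11)) := by
  intro h
  have h1 : PQ 2 5 L11 := by
    obtain ⟨k, -, hk⟩ := (Nat.dvd_prime_pow Nat.prime_two).1 order_x
    refine pq_sub Nat.prime_two Nat.prime_five (by norm_num) h (x := ⟨_, sign_x⟩) ⟨k, hk⟩ ?_ ?_
    · intro g hg
      apply Subtype.ext
      ext i
      show (((g : Perm (Fin 11)) (x i) : Fin 11) : ℕ) = ((x ((g : Perm (Fin 11)) i) : Fin 11) : ℕ)
      by_cases hi : (i : ℕ) < 5
      · rw [x_fix i hi, x_fix _ ((lt_iff hg i).2 hi)]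
      · rw [hg i (by omega), hg _ (x_ge i (by omega))]
    · intro c hc g hg i hi
      have h2 : (c : Perm (Fin 11)) * x = x * (c : Perm (Fin 11)) := congrArg Subtype.val hc
      have h7 : (c : Perm (Fin 11)) ((c : Perm (Fin 11))⁻¹ i) = i := Equiv.apply_symm_apply _ _
      have h3 : 5 ≤ (((c : Perm (Fin 11))⁻¹ i : Fin 11) : ℕ) := by
        by_contra h4
        have h5 := x_fix _ (not_le.1 h4)
        have h6 : (c : Perm (Fin 11)) (x ((c : Perm (Fin 11))⁻¹ i)) = x ((c : Perm (Fin 11)) ((c : Perm (Fin 11))⁻¹ i)) :=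
          congrArg (fun k : Perm (Fin 11) => k ((c : Perm (Fin 11))⁻¹ i)) h2
        rw [h5, h7] at h6
        exact x_mov i hi h6.symm
      show (c : Perm (Fin 11)) ((g : Perm (Fin 11)) ((c : Perm (Fin 11))⁻¹ i)) = i
      rw [hg _ h3, h7]
  exact a5_kill (PQ.of_equiv ((MulEquiv.ofBijective f11 f11_bij).trans (Equiv.altCongrHom e5)) h1)

end Cfsg.Agent.H894.PQ.AltFive
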