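import Cfsg.Agent.H894.PQ.Norm
import Cfsg.Agent.H30.FiE.Down

/-!
# S4612: the principal blocks of `Fi24'` and the commuting pairs of transpositions (helper894)

The kernel of the principal `p`-block of `Fi24'` on the commuting pairs of transpositions (helper30) is constant on the
13 classes of pairs.

* `exists_rep` : helper30's `Ctx.exists_deg` with the representation;
* `pairing` : the sum of the kernel against an eigenfunction.
-/

set_option autoImplicit false
set_option linter.unusedSectionVars false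

open Cfsg

namespace Cfsg.Agent.H894.PQ.Fi

open Cfsg.Agent.H317.PQ Cfsg.Agent.Blocks.Basic Cfsg.Agent.Blocks.Local Cfsg.Agent.H894.PQ.Hecke
open Cfsg.Agent.H30.PairFn Cfsg.Agent.H30.PairFn.Ctx
open scoped ComplexConjugate

universe u

attribute [local instance] Classical.propDecidable

/-- **Characters from eigenfunctions**, with the representation -/
theorem exists_rep {G : Type u} [Group G] [Finite G] {X : Ctx G} {P : Prop} {τ ω : ℂ} {v : ℕ → ℕ → ℂ} (hv : IsFn X v)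
    (hv1 : v X.a X.b = 1)
    (hA : ∀ c d, X.com c d → X.A1 v c d = τ * v c d) (hC : P → ∀ c d, X.com c d → X.CC v c d = ω * v c d)
    (huniq : ∀ ψ, IsFn X ψ → KInv X ψ → (∀ c d, X.com c d → X.A1 ψ c d = τ * ψ c d) →
      (P → ∀ c d, X.com c d → X.CC ψ c d = ω * ψ c d) → ∀ c d, X.com c d → ψ c d = ψ X.a X.b * v c d)
    {d : ℕ} {n2 s2 : ℂ} (hn : ∑ x ∈ X.PT, ∑ y ∈ X.PT, v x y * conj (v x y) = s2)
    (hE : ∑ x ∈ X.PT, ∑ y ∈ X.PT, X.ev 1 x y = n2) (hd : (d : ℂ) * s2 = n2) :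
    ∃ χ : IrrCharacter G, charDegree (χ : G → ℂ) = d ∧
      (χ : G → ℂ) = (H678.DG.Sph.rep (X.V P τ ω) V_inv).character ∧ ∃ φ ∈ X.V P τ ω, X.ev φ = v := by
  have := Fintype.ofFinite X.E
  obtain ⟨φ, hφ⟩ := exists_ev hv
  have hφV : φ ∈ X.V P τ ω := by
    rw [mem_V]
    intro c d h
    rw [hφ]
    exact ⟨hA c d h, fun hP => hC hP c d h⟩
  have hx0 : ∀ g ∈ X.K, g • X.pr X.hab = X.pr X.hab := by
    intro g hg
    rw [X.smul_pr, X.pr_eq]
    exact X.hK g hg
  have h1 : φ (X.pr X.hab) = 1 := by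
    rw [← ev_of (φ := φ) X.hab, hφ, hv1]
  obtain ⟨χ, hχ, hχr⟩ := H678.DG.Sph.exists_of_spherical' (V := X.V P τ ω) V_inv (X.pr X.hab) hφV h1 X.K hx0 (by
    intro φ' hφ' hK
    rw [mem_V] at hφ'
    refine ⟨φ' (X.pr X.hab), ev_inj ?_⟩
    have hKI : KInv X (X.ev φ') := by
      intro g hg c d
      rw [← ev_smul_act]
      congr 1
      funext e
      exact hK g hg e
    have h2 := huniq (X.ev φ') (isFn_ev φ') hKI (fun c d h => (hφ' c d h).1) (fun hP c d h => (hφ' c d h).2 hP)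
    funext c d
    by_cases h : X.com c d
    · rw [h2 c d h, ev_smul, hφ, ev_of X.hab]
    · rw [ev_not h, ev_not h])
  refine ⟨χ, ?_, hχr, φ, hφV, hφ⟩
  have hnrm : 2 * H678.DG.Sph.nrm φ = s2 := by
    unfold H678.DG.Sph.nrm
    rw [sum_E, ← hn]
    refine Finset.sum_congr rfl fun x _ => Finset.sum_congr rfl fun y _ => ?_
    by_cases h : X.com x y
    · rw [ev_of h, ← hφ, ev_of h]
    · rw [ev_not h, hv.zero x y h, zero_mul]
  have hcard : 2 * (Fintype.card X.E : ℂ) = n2 := by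
    rw [← hE, ← sum_E]
    simp
  have h0 := H678.DG.Sph.nrm_ne_zero h1
  have h3 : (charDegree (χ : G → ℂ) : ℂ) * H678.DG.Sph.nrm φ = d * H678.DG.Sph.nrm φ := by
    rw [hχ]
    have h4 : (2 : ℂ) * (Fintype.card X.E : ℂ) = 2 * (d * H678.DG.Sph.nrm φ) := by
      rw [hcard, ← hd, ← hnrm]; ring
    exact mul_left_cancel₀ (by norm_num) h4
  have h4 := mul_right_cancel₀ h0 h3
  exact_mod_cast h4

open Cfsg.Spor (Fi24)
open Cfsg.Agent.H30.FiE

/-- the sum over the pairs of a function of the class -/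
noncomputable def LS (w : ℕ → ℂ) : ℂ := 2 * (3510 * w 693 + 28160 * w 351 + 1 * w 3510) +
    3510 * (693 * w 4180 + 2 * w 693 + 5632 * w 8126 + 25344 * w 12063) +
    56320 * (728 * w 16108 + 1 * w 351 + 351 * w 8126 + 25272 * w 24036 + 3159 * w 16063 + 2160 * w 16000) +
    247104 * (1 * w 36360 + 5760 * w 24036 + 360 * w 12063 + 3150 * w 36072 + 22400 * w 36036)

/-- the classes -/
def L13 : List ℕ := [3510, 693, 351, 4180, 8126, 12063, 16063, 16108, 16000, 24036, 36360, 36072, 36036]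

/-- **The kernel of the principal block against an eigenfunction.** -/
theorem pairing [Fintype (commutator Fi24)] {p : ℕ} (hp : p.Prime) {M : Ideal AlgInt} (hM : IsPModular p M) :
    ∃ β : ℕ → ℂ, (∀ k ∈ L13, MemLocalRing M (β k)) ∧ LS β = 2 ∧
      ∀ {P : Prop} {τ ω : ℂ} {w : ℕ → ℂ} {χ : IrrCharacter Fi24} {φ : H30.FiE.X.E → ℂ}
        {θ : IrrCharacter (commutator Fi24)},
        (χ : Fi24 → ℂ) = (H678.DG.Sph.rep (H30.FiE.X.V P τ ω) V_inv).character → φ ∈ H30.FiE.X.V P τ ω →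
        H30.FiE.X.ev φ = fn H30.FiE.X H30.FiE.X.cl w →
        classInner (fun g : commutator Fi24 => (χ : Fi24 → ℂ) g) (θ : commutator Fi24 → ℂ) ≠ 0 →
        LS (fun k => β k * w k) = if θ ∈ B0 p (commutator Fi24) then 2 * w 3510 else 0 := by
  have hfin : Finite Fi24 := Cfsg.Agent.R08.FiTwentyFour.finite_Fi24
  have := Fintype.ofFinite Fi24
  have := Fintype.ofFinite H30.FiE.X.E
  let e0 : H30.FiE.X.E := H30.FiE.X.pr H30.FiE.X.hab
  let Φ : H30.FiE.X.E → ℂ := fun e => F p (commutator Fi24) e0 e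
  have hK : KInv H30.FiE.X (H30.FiE.X.ev Φ) := by
    intro g hg c d
    rw [← ev_smul_act]
    congr 1
    funext e
    show F p (commutator Fi24) e0 (g • e) = F p (commutator Fi24) e0 e
    have h1 : g • e0 = e0 := by
      show g • H30.FiE.X.pr H30.FiE.X.hab = _
      rw [H30.FiE.X.smul_pr]
      exact (H30.FiE.X.pr_eq _ _).2 (H30.FiE.X.hK g hg)
    conv_lhs => rw [← h1]
    exact F_conj g e0 e
  obtain ⟨β, hβ⟩ := orbs.exists_beta (isFn_ev Φ) hK
  refine ⟨β, fun k hk => ?_, ?_, ?_⟩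
  · obtain ⟨x, y, hxy, rfl⟩ := H30.FiE.exists_rep hk
    rw [← hβ x y hxy, ev_of hxy]
    exact F_local hp hM _ _
  · have h1 := sum_F_one (G := commutator Fi24) hp e0
    have h2 := sum_E Φ
    have h3 : ∑ c ∈ H30.FiE.X.PT, ∑ d ∈ H30.FiE.X.PT, H30.FiE.X.ev Φ c d = LS β := by
      refine Eq.trans ?_ (sum_fn β)
      refine Finset.sum_congr rfl fun c _ => Finset.sum_congr rfl fun d _ => ?_
      by_cases h : H30.FiE.X.com c d
      · rw [fn_of h, hβ c d h]
      · rw [ev_not h]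
        exact (if_neg h).symm
    have h4 : ∑ e, Φ e = 1 := h1
    rw [← h3, ← h2, h4, mul_one]
  · intro P τ ω w χ φ θ hχ hφ hw hθ
    have h1 := F_act (p := p) V_inv hχ hθ hφ e0
    have h2 := sum_E (fun e => Φ e * φ e)
    have h3 : ∑ c ∈ H30.FiE.X.PT, ∑ d ∈ H30.FiE.X.PT, H30.FiE.X.ev (fun e => Φ e * φ e) c d =
        LS (fun k => β k * w k) := by
      refine Eq.trans ?_ (sum_fn (fun k => β k * w k))
      refine Finset.sum_congr rfl fun c _ => Finset.sum_congr rfl fun d _ => ?_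
      by_cases h : H30.FiE.X.com c d
      · rw [ev_of h, fn_of h, ← hβ c d h, ← fn_of (β := w) h, ← hw, ev_of h, ev_of h]
      · rw [ev_not h]
        exact (if_neg h).symm
    rw [h3] at h2
    rw [← h2]
    have h4 : φ e0 = w 3510 := by
      have h5 := (chkCl_spec cl_02)
      have h6 : H30.FiE.X.ev φ 0 136 = φ e0 := ev_of H30.FiE.X.hab
      rw [← h6, hw, fn_of h5.1, h5.2]
    have h7 : ∑ e, Φ e * φ e = if θ ∈ B0 p (commutator Fi24) then φ e0 else 0 := h1
    rw [h7, h4, mul_ite, mul_zero]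

end Cfsg.Agent.H894.PQ.Fi
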