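import Cfsg.Agent.H314.OrbDeg
import Cfsg.Agent.H329.PQ.Trace

/-!
# S4612: the lattice test for permutation characters (helper894)

`G` transitive on `X` with pairwise distinct subdegrees `k j` (`Sub G X a b k`), `M i j` an intersection matrix.

* `exists_sph` : a simple rational eigenvalue of `M` with eigenvector `V` (normalised at `a`) gives an irreducible
  character `χ` with spherical function `V` (`IsSph`) and `χ(1) * ∑ k j * V j ^ 2 = |X|`;
* `lattice` : for characters `χ l` with spherical functions `V l`, and rational numbers `α l` such that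
  `∑ l, α l * k j * V l j` is an integer for all `j` : the sum of the `α l` over the `l` with `χ l ∈ B0 p G` is integral
  at `p`;
* `force` : the decision.
-/

set_option autoImplicit false
set_option linter.unusedSectionVars false

open Cfsg

namespace Cfsg.Agent.H894.PQ.Hecke

open Cfsg.Agent.H317.PQ Cfsg.Agent.Blocks.Basic Cfsg.Agent.Blocks.Local Cfsg.Agent.H593.IMFrame
open scoped ComplexConjugate
open Cfsg.Agent.Characters.Core (isIrr_isCharacter finite_irr isIrr_isClassFunction isIrr_apply_one_ne_zero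
  classInner_sum_nsmul_irr)

universe u

/-! ### Irreducible characters with a given spherical function -/

section sph

variable {G : Type u} [Group G] [Fintype G] {X : Type u} [MulAction G X] [Fintype X] {r : ℕ}
  {a : X} {b : Fin r → X} {k : Fin r → ℕ}

open scoped Classical in
/-- `V` is the spherical function of `χ` -/
def IsSph (G : Type u) [Group G] [Fintype G] {X : Type u} [MulAction G X] [Fintype X] {r : ℕ} (a : X) (b : Fin r → X)
    (χ : IrrCharacter G) (V : Fin r → ℚ) : Prop :=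
  ∀ j, E (χ : G → ℂ) a (b j) = (V j : ℂ) * ((charDegree (χ : G → ℂ) : ℂ) / Nat.card X)

theorem exists_sph (h : Sub G X a b k) (s i0 : Fin r) (hi0 : b i0 = a) (M : Fin r → Fin r → ℕ)
    (hM : ∀ i j, {y | Rel G a (b s) (b i) y ∧ Rel G a (b j) a y}.ncard = M i j)
    (θ : ℚ) (V : Fin r → ℚ) (hV0 : V i0 = 1) (hV : ∀ i, ∑ j, (M i j : ℚ) * V j = θ * V i)
    (hu : ∀ x : Fin r → ℂ, (∀ i, ∑ j, (M i j : ℂ) * x j = (θ : ℂ) * x i) → ∀ i, x i = x i0 * V i) :
    ∃ χ : IrrCharacter G, IsSph G a b χ V ∧ (charDegree (χ : G → ℂ) : ℚ) * ∑ j, (k j : ℚ) * V j ^ 2 = Nat.card X := by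
  classical
  have hfin := finite_irr (G := G)
  have := Fintype.ofFinite (IrrCharacter G)
  obtain ⟨m, hm, hm1, hmr⟩ := exists_mult h
  have hinner : ∀ χ : IrrCharacter G, classInner (perm G X) (χ : G → ℂ) = m χ := by
    intro χ
    rw [hm]
    exact classInner_sum_nsmul_irr m χ
  set S : Finset (IrrCharacter G) := Finset.univ.filter (fun χ => m χ = 1) with hS
  have hcard : S.card = r := by
    rw [← hmr, Finset.card_filter]
    refine Finset.sum_congr rfl fun χ _ => ?_
    have := hm1 χ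
    interval_cases (m χ) <;> simp
  let e : Fin r ≃ S := (S.equivFinOfCardEq hcard).symm
  let χ : Fin r → IrrCharacter G := fun i => (e i : IrrCharacter G)
  have hχinj : Function.Injective χ := fun i j hij => e.injective (Subtype.ext hij)
  have hχm : ∀ i, m (χ i) = 1 := fun i => (Finset.mem_filter.1 (e i).2).2
  -- the matrix of the kernels
  let Q : Matrix (Fin r) (Fin r) ℂ := fun s i => E (χ s : G → ℂ) a (b i)
  let N : Fin r → ℕ := fun i => Nat.card X * k i
  have hgram : Q * Matrix.diagonal (fun i => (N i : ℂ)) * Q.conjTranspose =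
      Matrix.diagonal (fun s => (charDegree (χ s : G → ℂ) : ℂ)) := by
    ext s t
    rw [Matrix.mul_apply]
    have h1 : ∀ i, (Q * Matrix.diagonal (fun i => (N i : ℂ))) s i * Q.conjTranspose i t =
        (N i : ℂ) * (E (χ s : G → ℂ) a (b i) * conj (E (χ t : G → ℂ) a (b i))) := by
      intro i
      rw [Matrix.mul_diagonal, Matrix.conjTranspose_apply]
      show E (χ s : G → ℂ) a (b i) * (N i : ℂ) * conj (E (χ t : G → ℂ) a (b i)) = _
      ring
    rw [Finset.sum_congr rfl fun i _ => h1 i]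
    have h2 := h.sum_invariant (fun x y => E (χ s : G → ℂ) x y * conj (E (χ t : G → ℂ) x y))
      (fun g x y => by
        rw [E_smul (isIrr_isClassFunction (χ s).2), E_smul (isIrr_isClassFunction (χ t).2)])
    rw [← h2, E_gram]
    by_cases hst : s = t
    · subst hst
      rw [if_pos rfl, Matrix.diagonal_apply_eq, hinner, hχm, Nat.cast_one, mul_one,
        charDegree_eq (χ s).2]
    · rw [if_neg (fun hh => hst (hχinj hh)), Matrix.diagonal_apply_ne _ hst]
  have hdeg0 : ∀ s, (charDegree (χ s : G → ℂ) : ℂ) ≠ 0 := fun s => by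
    rw [charDegree_eq (χ s).2]
    exact isIrr_apply_one_ne_zero (χ s).2
  have hdet : Q.det * (∏ i, (N i : ℂ)) * conj Q.det = ∏ s, (charDegree (χ s : G → ℂ) : ℂ) := by
    have h1 := congrArg Matrix.det hgram
    rw [Matrix.det_mul, Matrix.det_mul, Matrix.det_diagonal, Matrix.det_diagonal,
      Matrix.det_conjTranspose] at h1
    exact h1
  have hprod0 : (∏ s, (charDegree (χ s : G → ℂ) : ℂ)) ≠ 0 :=
    Finset.prod_ne_zero_iff.2 fun s _ => hdeg0 s
  have hQ0 : Q.det ≠ 0 := by
    intro h0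
    rw [h0, zero_mul, zero_mul] at hdet
    exact hprod0 hdet.symm
  have hQu : IsUnit Q.det := isUnit_iff_ne_zero.2 hQ0
  let P : Matrix (Fin r) (Fin r) ℂ := Q⁻¹
  have hPQ : P * Q = 1 := Matrix.nonsing_inv_mul Q hQu
  have hval : ∀ t j x y, Rel G a (b j) x y → E (χ t : G → ℂ) x y = Q t j := by
    intro t j x y hj
    obtain ⟨g, h1, h2⟩ := hj
    rw [← h1, ← h2, E_smul (isIrr_isClassFunction (χ t).2)]
  -- the kernel of the orbital
  have hA : ∀ i x y, (if Rel G a (b i) x y then (1 : ℂ) else 0) =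
      ∑ s, P i s * E (χ s : G → ℂ) x y := by
    intro i x y
    obtain ⟨j, hj⟩ := h.exists_rel x y
    simp only [hval _ j x y hj]
    have h2 : ∑ s, P i s * Q s j = (1 : Matrix (Fin r) (Fin r) ℂ) i j := by
      rw [← hPQ, Matrix.mul_apply]
    rw [h2, Matrix.one_apply]
    by_cases hij : i = j
    · subst hij
      rw [if_pos hj, if_pos rfl]
    · rw [if_neg hij, if_neg (fun hh => hij (h.rel_unique hh hj))]
  have hAE : ∀ i s x z, ∑ y : X, (if Rel G a (b i) x y then (1 : ℂ) else 0) *
      E (χ s : G → ℂ) y z = P i s * E (χ s : G → ℂ) x z := by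
    intro i s x z
    simp only [hA, Finset.sum_mul]
    rw [Finset.sum_comm, Finset.sum_eq_single s]
    · have h1 := E_mul (χ s) (χ s) x z
      rw [if_pos rfl] at h1
      rw [← h1, Finset.mul_sum]
      exact Finset.sum_congr rfl fun y _ => by ring
    · intro t _ ht
      have h1 := E_mul (χ t) (χ s) x z
      rw [if_neg (fun hh => ht (hχinj hh))] at h1
      have h2 : ∑ y : X, P i t * E (χ t : G → ℂ) x y * E (χ s : G → ℂ) y z =
          P i t * ∑ y : X, E (χ t : G → ℂ) x y * E (χ s : G → ℂ) y z := by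
        rw [Finset.mul_sum]
        exact Finset.sum_congr rfl fun y _ => by ring
      rw [h2, h1, mul_zero]
    · intro hh
      exact absurd (Finset.mem_univ _) hh
  -- the rows of `Q` are eigenvectors of `M`
  have hQM : ∀ t i, ∑ j, (M i j : ℂ) * Q t j = P s t * Q t i := by
    intro t i
    obtain ⟨i', hi'⟩ := h.exists_rel (b i) a
    have hia : Rel G a (b i) a (b i) := ⟨1, one_smul _ _, one_smul _ _⟩
    have h1 : E (χ t : G → ℂ) (b i) a = Q t i := hval t i _ _ (h.symm hia)
    rw [← h1, ← hAE s t (b i) a]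
    choose o ho using fun y : X => h.exists_rel a y
    have h2 : ∀ y, E (χ t : G → ℂ) y a = Q t (o y) := fun y => hval t _ _ _ (h.symm (ho y))
    rw [← Finset.sum_fiberwise Finset.univ o]
    refine Finset.sum_congr rfl fun j _ => ?_
    have h3 : ∀ y ∈ Finset.univ.filter (fun y => o y = j),
        (if Rel G a (b s) (b i) y then (1 : ℂ) else 0) * E (χ t : G → ℂ) y a =
          (if Rel G a (b s) (b i) y then (1 : ℂ) else 0) * Q t j := by
      intro y hy
      rw [h2, (Finset.mem_filter.1 hy).2]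
    rw [Finset.sum_congr rfl h3, ← Finset.sum_mul]
    congr 1
    rw [Finset.sum_boole, ← hM i j, Set.ncard_eq_toFinset_card']
    congr 2
    ext y
    simp only [Finset.mem_filter, Finset.mem_univ, true_and, Set.mem_toFinset, Set.mem_ofPred_eq]
    constructor
    · rintro ⟨h4, h5⟩
      exact ⟨h.rel_unique h5 (ho y) ▸ rfl, h4⟩
    · rintro ⟨h4, h5⟩
      exact ⟨h5, h4 ▸ ho y⟩
  have hQP : Q * P = 1 := Matrix.mul_nonsing_inv Q hQu
  -- coordinates of the eigenvector
  let c : Fin r → ℂ := fun t => ∑ j, (V j : ℂ) * P j t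
  have hc : ∀ j, ∑ t, c t * Q t j = (V j : ℂ) := by
    intro j
    simp only [c, Finset.sum_mul]
    rw [Finset.sum_comm]
    have h1 : ∀ i, ∑ t, (V i : ℂ) * P i t * Q t j = (V i : ℂ) * (1 : Matrix (Fin r) (Fin r) ℂ) i j := by
      intro i
      rw [← hPQ, Matrix.mul_apply, Finset.mul_sum]
      exact Finset.sum_congr rfl fun t _ => by ring
    rw [Finset.sum_congr rfl fun i _ => h1 i, Finset.sum_eq_single j]
    · rw [Matrix.one_apply_eq, mul_one]
    · intro i _ hi
      rw [Matrix.one_apply_ne hi, mul_zero]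
    · intro hh
      exact absurd (Finset.mem_univ _) hh
  have hVc : ∀ i, ∑ j, (M i j : ℂ) * (V j : ℂ) = (θ : ℂ) * (V i : ℂ) := by
    intro i
    have h1 := hV i
    exact_mod_cast congrArg (fun q : ℚ => (q : ℂ)) h1
  have hind : ∀ d : Fin r → ℂ, (∀ j, ∑ t, d t * Q t j = 0) → ∀ t, d t = 0 := by
    intro d hd t
    have h1 : ∑ j, (∑ t', d t' * Q t' j) * P j t = d t := by
      simp only [Finset.sum_mul]
      rw [Finset.sum_comm]
      have h2 : ∀ t', ∑ j, d t' * Q t' j * P j t = d t' * (1 : Matrix (Fin r) (Fin r) ℂ) t' t := by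
        intro t'
        rw [← hQP, Matrix.mul_apply, Finset.mul_sum]
        exact Finset.sum_congr rfl fun j _ => by ring
      rw [Finset.sum_congr rfl fun t' _ => h2 t', Finset.sum_eq_single t]
      · rw [Matrix.one_apply_eq, mul_one]
      · intro i _ hi
        rw [Matrix.one_apply_ne hi, mul_zero]
      · intro hh
        exact absurd (Finset.mem_univ _) hh
    rw [← h1]
    exact Finset.sum_eq_zero fun j _ => by rw [hd, zero_mul]
  have hcα : ∀ t, c t * (P s t - (θ : ℂ)) = 0 := by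
    refine hind _ fun i => ?_
    have h1 : ∑ t, c t * (P s t - (θ : ℂ)) * Q t i =
        ∑ t, c t * (P s t * Q t i) - (θ : ℂ) * ∑ t, c t * Q t i := by
      rw [Finset.mul_sum, ← Finset.sum_sub_distrib]
      exact Finset.sum_congr rfl fun t _ => by ring
    rw [h1, hc, ← hVc, sub_eq_zero]
    simp only [← hQM, ← hc, Finset.mul_sum]
    rw [Finset.sum_comm]
    exact Finset.sum_congr rfl fun j _ => Finset.sum_congr rfl fun t _ => by ring
  have hex : ∃ t, c t ≠ 0 := by
    by_contra hcon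
    push Not at hcon
    have h1 := hc i0
    rw [hV0, Finset.sum_eq_zero fun t _ => by rw [hcon, zero_mul]] at h1
    norm_num at h1
  obtain ⟨t, ht⟩ := hex
  have htθ : P s t = (θ : ℂ) := sub_eq_zero.1 ((mul_eq_zero.1 (hcα t)).resolve_left ht)
  have hQV : ∀ i, Q t i = Q t i0 * V i := hu (fun i => Q t i) (fun i => by rw [← htθ]; exact hQM t i)
  have hX0 : (Nat.card X : ℂ) ≠ 0 := by exact_mod_cast h.card_pos.ne'
  -- the value at the diagonal
  have hdiag : (Nat.card X : ℂ) * Q t i0 = (charDegree (χ t : G → ℂ) : ℂ) := by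
    have h1 := E_trace (X := X) (χ t)
    have h2 : ∀ x : X, E (χ t : G → ℂ) x x = Q t i0 := by
      intro x
      have := h.trans
      obtain ⟨g, hg⟩ := MulAction.exists_smul_eq G a x
      exact hval t i0 x x ⟨g, hg, by rw [hi0]; exact hg⟩
    rw [Finset.sum_congr rfl fun x _ => h2 x, Finset.sum_const, Finset.card_univ, hinner, hχm, Nat.cast_one,
      mul_one, nsmul_eq_mul] at h1
    rw [Nat.card_eq_fintype_card, h1, charDegree_eq (χ t).2]
  have hd := hdeg0 t
  have h2 : ∀ j, Q t j = (V j : ℂ) * ((charDegree (χ t : G → ℂ) : ℂ) / Nat.card X) := by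
    intro j
    rw [hQV j, ← hdiag]
    field_simp
  refine ⟨χ t, h2, ?_⟩
  set d : ℂ := (charDegree (χ t : G → ℂ) : ℂ) with hdef
  have h3 := congrFun (congrFun hgram t) t
  rw [Matrix.diagonal_apply_eq, Matrix.mul_apply] at h3
  have h4 : ∀ i, (Q * Matrix.diagonal (fun i => (N i : ℂ))) t i * Q.conjTranspose i t =
      ((k i : ℂ) * (V i : ℂ) ^ 2) * (d ^ 2 / Nat.card X) := by
    intro i
    rw [Matrix.mul_diagonal, Matrix.conjTranspose_apply]
    have h5 : star (Q t i) = Q t i := by
      rw [h2 i, hdef]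
      show conj ((V i : ℂ) * _) = _
      rw [map_mul, map_div₀, Complex.conj_natCast, Complex.conj_natCast]
      congr 1
      have h6 := Complex.conj_ofReal (V i : ℝ)
      exact_mod_cast h6
    rw [h5, h2 i]
    have h6 : (N i : ℂ) = (Nat.card X : ℂ) * (k i : ℂ) := by
      simp only [N]; push_cast; ring
    rw [h6]
    field_simp
  rw [Finset.sum_congr rfl fun i _ => h4 i, ← Finset.sum_mul] at h3
  have h5 : d * ∑ i, (k i : ℂ) * (V i : ℂ) ^ 2 = (Nat.card X : ℂ) := by
    have h6 : (∑ i, (k i : ℂ) * (V i : ℂ) ^ 2) * d ^ 2 = d * Nat.card X := by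
      rw [mul_div_assoc'] at h3
      rw [div_eq_iff hX0] at h3
      exact h3
    have h7 : d * (d * ∑ i, (k i : ℂ) * (V i : ℂ) ^ 2) = d * Nat.card X := by
      rw [← h6]; ring
    exact mul_left_cancel₀ hd h7
  have h6 : (((charDegree (χ t : G → ℂ) : ℚ) * ∑ j, (k j : ℚ) * V j ^ 2 : ℚ) : ℂ) = ((Nat.card X : ℚ) : ℂ) := by
    push_cast
    exact h5
  exact_mod_cast h6

end sph

/-! ### The kernel of the principal block -/

section block

variable {G : Type u} [Group G] [Fintype G] {X : Type u} [MulAction G X] [Fintype X] [DecidableEq X] {r : ℕ}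
  {a : X} {b : Fin r → X} {k : Fin r → ℕ} {p : ℕ}

/-- the kernel of the idempotent of the principal block -/
noncomputable def F (p : ℕ) (G : Type u) [Group G] [Fintype G] {X : Type u} [MulAction G X] [DecidableEq X] (x y : X) : ℂ :=
  ∑ g : G, if g • y = x then blockCoeff (B0 p G) g else 0

theorem F_local (hp : p.Prime) {M : Ideal AlgInt} (hM : IsPModular p M) (x y : X) : MemLocalRing M (F p G x y) := by
  have : M.IsPrime := isPrime_of_isPModular hM
  unfold F
  refine memLocalRing_sum fun g _ => ?_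
  split_ifs
  · exact H329.PQ.coeff_mem hp hM g
  · exact memLocalRing_zero

theorem F_eq (x y : X) : F p G x y = ∑ᶠ χ ∈ B0 p G, E (χ : G → ℂ) x y := by
  have : Finite (IrrCharacter G) := finite_irr
  rw [finsum_mem_eq_finite_toFinset_sum _ (Set.toFinite _)]
  unfold F E
  simp only [Finset.mul_sum]
  rw [Finset.sum_comm]
  refine Finset.sum_congr rfl fun g _ => ?_
  by_cases hg : g • y = x
  · simp only [if_pos hg]
    rw [blockCoeff_def, finsum_mem_eq_finite_toFinset_sum _ (Set.toFinite _), Finset.mul_sum]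
    exact Finset.sum_congr rfl fun χ _ => by ring
  · simp only [if_neg hg, mul_zero, Finset.sum_const_zero]

theorem F_smul (h : G) (x y : X) : F p G (h • x) (h • y) = F p G x y := by
  have : Finite (IrrCharacter G) := finite_irr
  rw [F_eq, F_eq]
  exact finsum_mem_congr rfl fun χ _ => E_smul (isIrr_isClassFunction χ.2) h x y

open scoped Classical in
theorem E_mul_F (χ : IrrCharacter G) (x z : X) :
    ∑ y : X, E (χ : G → ℂ) x y * F p G y z = if χ ∈ B0 p G then E (χ : G → ℂ) x z else 0 := by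
  have : Finite (IrrCharacter G) := finite_irr
  have h1 : ∀ y : X, E (χ : G → ℂ) x y * F p G y z =
      ∑ ψ ∈ (Set.toFinite (B0 p G)).toFinset, E (χ : G → ℂ) x y * E (ψ : G → ℂ) y z := by
    intro y
    rw [F_eq, finsum_mem_eq_finite_toFinset_sum _ (Set.toFinite _), Finset.mul_sum]
  simp only [h1]
  rw [Finset.sum_comm]
  simp only [E_mul]
  by_cases hχ : χ ∈ B0 p G
  · rw [if_pos hχ, Finset.sum_eq_single χ]
    · rw [if_pos rfl]
    · intro ψ _ hψ
      rw [if_neg (fun hh => hψ hh.symm)]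
    · intro hh
      exact absurd ((Set.toFinite (B0 p G)).mem_toFinset.2 hχ) hh
  · rw [if_neg hχ]
    refine Finset.sum_eq_zero fun ψ hψ => ?_
    rw [if_neg]
    rintro rfl
    exact hχ ((Set.toFinite (B0 p G)).mem_toFinset.1 hψ)

end block

section lattice

variable {G : Type u} [Group G] [Fintype G] {X : Type u} [MulAction G X] [Fintype X] {r : ℕ}
  {a : X} {b : Fin r → X} {k : Fin r → ℕ} {p : ℕ}

open scoped Classical in
theorem pair (h : Sub G X a b k) {i0 : Fin r} (hi0 : b i0 = a) {χ : IrrCharacter G} {V : Fin r → ℚ}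
    (hχ : IsSph G a b χ V) (hV0 : V i0 = 1) :
    ∑ j, ((k j : ℂ) * (V j : ℂ)) * F p G (b j) a = if χ ∈ B0 p G then 1 else 0 := by
  have h1 := E_mul_F (p := p) χ a a
  choose o ho using fun y : X => h.exists_rel a y
  rw [← Finset.sum_fiberwise Finset.univ o] at h1
  have h2 : ∀ j, ∑ y ∈ Finset.univ.filter (fun y => o y = j), E (χ : G → ℂ) a y * F p G y a =
      (k j : ℂ) * (E (χ : G → ℂ) a (b j) * F p G (b j) a) := by
    intro j
    have h3 : ∀ y ∈ Finset.univ.filter (fun y => o y = j), E (χ : G → ℂ) a y * F p G y a =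
        E (χ : G → ℂ) a (b j) * F p G (b j) a := by
      intro y hy
      have h4 := ho y
      rw [(Finset.mem_filter.1 hy).2] at h4
      obtain ⟨g, hg1, hg2⟩ := h4
      have h5 : E (χ : G → ℂ) a y = E (χ : G → ℂ) a (b j) := by
        conv_lhs => rw [← hg2]
        nth_rewrite 1 [← hg1]
        exact E_smul (isIrr_isClassFunction χ.2) g a (b j)
      have h6 : F p G y a = F p G (b j) a := by
        have h7 := F_smul (p := p) g (b j) a
        rwa [hg1, hg2] at h7
      rw [h5, h6]
    rw [Finset.sum_congr rfl h3, Finset.sum_const, nsmul_eq_mul]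
    congr 2
    rw [← h.ncard_rel j a, Set.ncard_eq_toFinset_card']
    congr 1
    ext y
    simp only [Finset.mem_filter, Finset.mem_univ, true_and, Set.mem_toFinset, Set.mem_ofPred_eq]
    exact ⟨fun h5 => h5 ▸ ho y, fun h5 => h.rel_unique (ho y) h5⟩
  rw [Finset.sum_congr rfl fun j _ => h2 j] at h1
  have hX0 : (Nat.card X : ℂ) ≠ 0 := by exact_mod_cast h.card_pos.ne'
  have hd0 : (charDegree (χ : G → ℂ) : ℂ) ≠ 0 := by
    rw [charDegree_eq χ.2]
    exact isIrr_apply_one_ne_zero χ.2
  have haa : E (χ : G → ℂ) a a = (charDegree (χ : G → ℂ) : ℂ) / Nat.card X := by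
    have h3 := hχ i0
    rw [hi0, hV0, Rat.cast_one, one_mul] at h3
    exact h3
  have hq0 : (charDegree (χ : G → ℂ) : ℂ) / Nat.card X ≠ 0 := div_ne_zero hd0 hX0
  apply mul_left_cancel₀ hq0
  rw [Finset.mul_sum]
  have h3 : ∀ j, (charDegree (χ : G → ℂ) : ℂ) / Nat.card X * (((k j : ℂ) * (V j : ℂ)) * F p G (b j) a) =
      (k j : ℂ) * (E (χ : G → ℂ) a (b j) * F p G (b j) a) := by
    intro j
    rw [hχ j]
    ring
  rw [Finset.sum_congr rfl fun j _ => h3 j, h1, haa, mul_ite, mul_one, mul_zero]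

/-- a rational number in the local ring -/
theorem not_dvd_den {M : Ideal AlgInt} (hp : p.Prime) (hM : IsPModular p M) {q : ℚ} (h : MemLocalRing M (q : ℂ)) :
    ¬ p ∣ q.den := by
  have : M.IsPrime := isPrime_of_isPModular hM
  rintro ⟨d, hd⟩
  have h1 : ((q.num : ℤ) : ℂ) = (p : ℂ) * ((d : ℂ) * (q : ℂ)) := by
    have h2 : (q.den : ℚ) * q = q.num := Rat.den_mul_eq_num q
    have h3 : ((q.den : ℚ) : ℂ) * (q : ℂ) = ((q.num : ℚ) : ℂ) := by
      rw [← h2]; push_cast; rfl
    rw [hd] at h3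
    push_cast at h3
    rw [← h3]
    ring
  have h2 : MemLocalIdeal M ((q.num : ℤ) : ℂ) := by
    rw [h1]
    exact memLocalIdeal_mul_right (memLocalIdeal_p hM) (memLocalRing_mul (memLocalRing_natCast _) h)
  have h3 : (p : ℤ) ∣ q.num := (memLocalIdeal_intCast_iff hM _).1 h2
  have h4 : p ∣ q.num.natAbs := Int.natCast_dvd.1 h3
  have h5 := Nat.dvd_gcd h4 ⟨d, hd⟩
  rw [q.reduced.gcd_eq_one] at h5
  exact hp.one_lt.ne' (Nat.dvd_one.1 h5)

/-- **The lattice test.** -/
theorem lattice (hp : p.Prime) (h : Sub G X a b k) {i0 : Fin r} (hi0 : b i0 = a) {m : ℕ} {χ : Fin m → IrrCharacter G}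
    {V : Fin m → Fin r → ℚ} (hχ : ∀ l, IsSph G a b (χ l) (V l)) (hV0 : ∀ l, V l i0 = 1) (α : Fin m → ℚ)
    (hα : ∀ j, (∑ l, α l * (k j * V l j)).den = 1) (S : Finset (Fin m)) (hS : ∀ l, l ∈ S ↔ χ l ∈ B0 p G) :
    ¬ p ∣ (∑ l ∈ S, α l).den := by
  classical
  obtain ⟨M, hM⟩ := Cfsg.Agent.Blocks.ExistsModular.exists_isPModular hp
  have : M.IsPrime := isPrime_of_isPModular hM
  refine not_dvd_den hp hM ?_
  have h1 : ((∑ l ∈ S, α l : ℚ) : ℂ) = ∑ j, (((∑ l, α l * (k j * V l j)).num : ℤ) : ℂ) * F p G (b j) a := by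
    have h2 : ∀ j, ((((∑ l, α l * (k j * V l j)).num : ℤ) : ℂ)) = ∑ l, (α l : ℂ) * ((k j : ℂ) * (V l j : ℂ)) := by
      intro j
      have h3 : (((∑ l, α l * (k j * V l j)).num : ℤ) : ℚ) = ∑ l, α l * (k j * V l j) := by
        have h4 := Rat.den_mul_eq_num (∑ l, α l * (k j * V l j))
        rw [hα j, Nat.cast_one, one_mul] at h4
        exact h4.symm
      have h4 := congrArg (fun q : ℚ => (q : ℂ)) h3
      push_cast at h4
      exact h4
    simp only [h2, Finset.sum_mul]
    rw [Finset.sum_comm]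
    have h3 : ∀ l, ∑ j, (α l : ℂ) * ((k j : ℂ) * (V l j : ℂ)) * F p G (b j) a =
        if l ∈ S then (α l : ℂ) else 0 := by
      intro l
      have h4 := pair (p := p) h hi0 (hχ l) (hV0 l)
      have h5 : ∑ j, (α l : ℂ) * ((k j : ℂ) * (V l j : ℂ)) * F p G (b j) a =
          (α l : ℂ) * ∑ j, ((k j : ℂ) * (V l j : ℂ)) * F p G (b j) a := by
        rw [Finset.mul_sum]
        exact Finset.sum_congr rfl fun j _ => by ring
      rw [h5, h4]
      by_cases hl : l ∈ S
      · rw [if_pos hl, if_pos ((hS l).1 hl), mul_one]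
      · rw [if_neg hl, if_neg (fun hh => hl ((hS l).2 hh)), mul_zero]
    rw [Finset.sum_congr rfl fun l _ => h3 l, Rat.cast_sum, Finset.sum_ite_mem, Finset.univ_inter]
  rw [h1]
  exact memLocalRing_sum fun j _ => memLocalRing_mul (memLocalRing_intCast _) (F_local hp hM _ _)

/-- **The decision.**  `αs` : a list of functionals; the character `χ 0` is principal; every set of indices containing `0`
which satisfies the integrality conditions satisfies `C`. -/
theorem force (hp : p.Prime) (h : Sub G X a b k) {i0 : Fin r} (hi0 : b i0 = a) {m : ℕ} {χ : Fin m → IrrCharacter G}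
    {V : Fin m → Fin r → ℚ} (hχ : ∀ l, IsSph G a b (χ l) (V l)) (hV0 : ∀ l, V l i0 = 1) (αs : List (Fin m → ℚ))
    (hα : ∀ α ∈ αs, ∀ j, (∑ l, α l * (k j * V l j)).den = 1) (l0 : Fin m) (h0 : χ l0 ∈ B0 p G)
    (C : Finset (Fin m) → Prop) [DecidablePred C]
    (hC : ∀ S : Finset (Fin m), l0 ∈ S → (∀ α ∈ αs, ¬ p ∣ (∑ l ∈ S, α l).den) → C S) :
    ∃ S : Finset (Fin m), (∀ l, l ∈ S ↔ χ l ∈ B0 p G) ∧ C S := by
  classical
  refine ⟨Finset.univ.filter fun l => χ l ∈ B0 p G, fun l => by simp, ?_⟩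
  refine hC _ (by simpa using h0) fun α hαm => ?_
  exact lattice hp h hi0 hχ hV0 α (hα α hαm) _ (fun l => by simp)

end lattice

end Cfsg.Agent.H894.PQ.Hecke
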