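import Cfsg.Agent.H894.PQ.HeckeTab

/-!
# S4612: the lattice test, certificates (helper894)

`exists_sph_all` : all the characters at once; the uniqueness of the eigenvectors by a matrix `C` with
`C (M - θ) = 1 - V e₀ᵀ`.
-/

set_option autoImplicit false

open Cfsg

namespace Cfsg.Agent.H894.PQ.Hecke

open Cfsg.Agent.H317.PQ Cfsg.Agent.H593.IMFrame Cfsg.Agent.Blocks.Basic Cfsg.Agent.Blocks.Local

universe u

/-- the certificate of uniqueness -/
theorem unique_of_cert {r : ℕ} (M : Fin r → Fin r → ℕ) (θ : ℚ) (V : Fin r → ℚ) (i0 : Fin r) (C : Fin r → Fin r → ℚ)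
    (hC : ∀ k j, ∑ i, C k i * ((M i j : ℚ) - if i = j then θ else 0) =
      (if k = j then 1 else 0) - (if i0 = j then V k else 0)) (x : Fin r → ℂ)
    (hx : ∀ i, ∑ j, (M i j : ℂ) * x j = (θ : ℂ) * x i) (k : Fin r) : x k = x i0 * V k := by
  have h1 : ∀ j, ∑ i, (C k i : ℂ) * ((M i j : ℂ) - if i = j then (θ : ℂ) else 0) =
      (if k = j then 1 else 0) - (if i0 = j then (V k : ℂ) else 0) := by
    intro j
    have h2 := congrArg (fun q : ℚ => (q : ℂ)) (hC k j)
    simp only [Rat.cast_sum, Rat.cast_mul, Rat.cast_sub, Rat.cast_natCast] at h2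
    have e1 : ∀ i, (((if i = j then θ else 0 : ℚ)) : ℂ) = if i = j then (θ : ℂ) else 0 := by
      intro i
      split_ifs
      · rfl
      · exact Rat.cast_zero
    have e2 : (((if k = j then 1 else 0 : ℚ)) : ℂ) = if k = j then (1 : ℂ) else 0 := by
      split_ifs
      · exact Rat.cast_one
      · exact Rat.cast_zero
    have e3 : (((if i0 = j then V k else 0 : ℚ)) : ℂ) = if i0 = j then (V k : ℂ) else 0 := by
      split_ifs
      · rfl
      · exact Rat.cast_zero
    simp only [e1, e2, e3] at h2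
    exact h2
  have h2 : ∑ j, ((if k = j then 1 else 0) - (if i0 = j then (V k : ℂ) else 0)) * x j = x k - V k * x i0 := by
    simp only [sub_mul, Finset.sum_sub_distrib, ite_mul, one_mul, zero_mul, Finset.sum_ite_eq, Finset.mem_univ,
      if_true]
  have h3 : ∑ j, ((if k = j then 1 else 0) - (if i0 = j then (V k : ℂ) else 0)) * x j = 0 := by
    rw [Finset.sum_congr rfl fun j _ => by rw [← h1 j, Finset.sum_mul], Finset.sum_comm]
    refine Finset.sum_eq_zero fun i _ => ?_
    have h4 : ∑ j, (C k i : ℂ) * ((M i j : ℂ) - if i = j then (θ : ℂ) else 0) * x j =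
        (C k i : ℂ) * (∑ j, (M i j : ℂ) * x j - (θ : ℂ) * x i) := by
      have h5 : ∑ j, (if i = j then (θ : ℂ) else 0) * x j = (θ : ℂ) * x i := by
        simp only [ite_mul, zero_mul, Finset.sum_ite_eq, Finset.mem_univ, if_true]
      rw [← h5, ← Finset.sum_sub_distrib, Finset.mul_sum]
      exact Finset.sum_congr rfl fun j _ => by ring
    rw [h4, hx i, sub_self, mul_zero]
  rw [h2] at h3
  rw [sub_eq_zero] at h3
  rw [h3, mul_comm]

section

variable {G : Type u} [Group G] [Fintype G] {X : Type u} [MulAction G X] [Fintype X] {r : ℕ}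
  {a : X} {b : Fin r → X} {k : Fin r → ℕ}

/-- **All the characters at once.** -/
theorem exists_sph_all (h : Sub G X a b k) (s i0 : Fin r) (hi0 : b i0 = a) (M : Fin r → Fin r → ℕ)
    (hM : ∀ i j, {y | Rel G a (b s) (b i) y ∧ Rel G a (b j) a y}.ncard = M i j) {m : ℕ}
    (θ : Fin m → ℚ) (V : Fin (m + 1) → Fin r → ℚ) (hV1 : V 0 = fun _ => 1) (hV0 : ∀ l : Fin m, V l.succ i0 = 1)
    (hV : ∀ (l : Fin m) i, ∑ j, (M i j : ℚ) * V l.succ j = θ l * V l.succ i)
    (C : Fin m → Fin r → Fin r → ℚ)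
    (hC : ∀ l n j, ∑ i, C l n i * ((M i j : ℚ) - if i = j then θ l else 0) =
      (if n = j then 1 else 0) - (if i0 = j then V l.succ n else 0)) (d : Fin m → ℕ)
    (hd : ∀ l, (d l : ℚ) * ∑ j, (k j : ℚ) * V l.succ j ^ 2 = Nat.card X) :
    ∃ χ : Fin (m + 1) → IrrCharacter G, ((χ 0 : IrrCharacter G) : G → ℂ) = 1 ∧ (∀ l, IsSph G a b (χ l) (V l)) ∧
      ∀ l : Fin m, charDegree (χ l.succ : G → ℂ) = d l := by
  classical
  have hX : (Nat.card X : ℚ) ≠ 0 := by
    have : Nonempty X := ⟨a⟩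
    exact_mod_cast (Nat.card_pos (α := X)).ne'
  choose χ hχ hχd using fun l : Fin m => exists_sph h s i0 hi0 M hM (θ l) (V l.succ) (hV0 l) (hV l)
    (fun x hx => unique_of_cert M (θ l) (V l.succ) i0 (C l) (hC l) x hx)
  refine ⟨Fin.cases ⟨_, isIrrCharacter_one⟩ χ, rfl, fun l => ?_, fun l => ?_⟩
  · refine Fin.cases ?_ (fun l => ?_) l
    · rw [hV1]
      exact isSph_one h rfl
    · exact hχ l
  · have h1 := hχd l
    rw [← hd l] at h1
    have h2 : ∑ j, (k j : ℚ) * V l.succ j ^ 2 ≠ 0 := by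
      intro h3
      have h4 := hd l
      rw [h3, mul_zero] at h4
      exact hX h4.symm
    have h3 := mul_right_cancel₀ h2 h1
    exact_mod_cast h3

end

end Cfsg.Agent.H894.PQ.Hecke
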