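import Cfsg.Agent.H894.PQ.Hecke
import Cfsg.Agent.H314.OrbCount
import Cfsg.Agent.H492.IMSph

/-!
# S4612: the lattice test, double coset tables (helper894)

* `sub_of_table`, `ncard_of_table` : the input of `Hecke.exists_sph` from a table of local counts
  (`H492.IMSph.exists_irr_of_table`);
* `isSph_one` : the principal character.
-/

set_option autoImplicit false
set_option linter.unusedSectionVars false

open Cfsg

namespace Cfsg.Agent.H894.PQ.Hecke

open Cfsg.Agent.H317.PQ Cfsg.Agent.H593.IMFrame Cfsg.Agent.H314.OrbCount Cfsg.Agent.H492.IMSph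
open MulAction
open Cfsg.Agent.HN.Count (sz pnt)

universe u

theorem card_fib {K : Type*} [Group K] [Fintype K] {X : Type*} [MulAction K X] [Finite X] (x0 : X) (Q : X → Prop)
    [DecidablePred Q] :
    (Finset.univ.filter fun h : K => Q (h • x0)).card =
      Nat.card (stabilizer K x0) * {z | z ∈ orbit K x0 ∧ Q z}.ncard := by
  classical
  have := Fintype.ofFinite X
  rw [Finset.card_eq_sum_card_fiberwise (f := fun h : K => h • x0)
    (t := Finset.univ.filter fun z => z ∈ orbit K x0 ∧ Q z)]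
  · have h1 : ∀ z ∈ Finset.univ.filter (fun z => z ∈ orbit K x0 ∧ Q z),
        ((Finset.univ.filter fun h : K => Q (h • x0)).filter fun h => h • x0 = z).card =
          Nat.card (stabilizer K x0) := by
      intro z hz
      obtain ⟨⟨g, rfl⟩, hQ⟩ := (Finset.mem_filter.1 hz).2
      rw [Nat.card_eq_fintype_card, ← Fintype.card_coe]
      refine Fintype.card_congr
        { toFun := fun h => ⟨g⁻¹ * h.1, ?_⟩
          invFun := fun s => ⟨g * s.1, ?_⟩
          left_inv := fun h => Subtype.ext (mul_inv_cancel_left _ _)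
          right_inv := fun s => Subtype.ext (inv_mul_cancel_left _ _) }
      · have h2 := (Finset.mem_filter.1 h.2).2
        rw [mem_stabilizer_iff, mul_smul, h2, inv_smul_smul]
      · have h2 : (g * (s : K)) • x0 = g • x0 := by
          rw [mul_smul, mem_stabilizer_iff.1 s.2]
        refine Finset.mem_filter.2 ⟨Finset.mem_filter.2 ⟨Finset.mem_univ _, ?_⟩, h2⟩
        rw [h2]
        exact hQ
    rw [Finset.sum_congr rfl h1, Finset.sum_const, smul_eq_mul, mul_comm]
    congr 1
    rw [Set.ncard_eq_toFinset_card']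
    congr 1
    ext z
    simp
  · intro h hh
    exact Finset.mem_coe.2 (Finset.mem_filter.2 ⟨Finset.mem_univ _, ⟨h, rfl⟩, (Finset.mem_filter.1 (Finset.mem_coe.1 hh)).2⟩)

section table

variable {G : Type u} [Group G] [Finite G] (H : Subgroup G) {m n : ℕ} (w : Fin m → G)

theorem sub_of_table
    (hdis : ∀ i j, w j ∈ DoubleCoset.doubleCoset (w i) (H : Set G) (H : Set G) → i = j)
    (hcov : ∀ g, ∃ i, g ∈ DoubleCoset.doubleCoset (w i) (H : Set G) (H : Set G))
    (ss : Fin m → ℕ) (hss : ∀ i, sz H (w i) = ss i) (hinj : Function.Injective ss) :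
    Sub G (G ⧸ H) (QuotientGroup.mk 1 : G ⧸ H) (fun i => QuotientGroup.mk (w i)) ss := by
  refine Sub.of_quotient H _ (fun i => ?_) hinj ?_
  · rw [← hss i, ← sz_inv]
    unfold sz pnt
    rw [inv_inv]
    rfl
  · rw [Cfsg.Agent.HN.Count.index_eq_sum H w hdis hcov]
    exact (Finset.sum_congr rfl fun i _ => hss i).symm

theorem ncard_of_table (t : G)
    (hdis : ∀ i j, w j ∈ DoubleCoset.doubleCoset (w i) (H : Set G) (H : Set G) → i = j)
    (pt : H → Fin n) (N : ℕ) (hpt : ∀ q, Nat.card {h : H // pt h = q} = N)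
    (τ : Fin m → Fin n → Fin m)
    (hτ : ∀ i (h : H), w i * h * t ∈ DoubleCoset.doubleCoset (w (τ i (pt h))) (H : Set G) (H : Set G))
    (k : Fin m → Fin m → ℕ)
    (hk : ∀ i j, (Finset.univ.filter (fun q => τ i q = j)).card = k i j)
    (s : Fin m) (hts : t ∈ DoubleCoset.doubleCoset (w s) (H : Set G) (H : Set G)) (hn : sz H (w s) = n) (i j : Fin m) :
    {y : G ⧸ H | Rel G (QuotientGroup.mk 1 : G ⧸ H) (QuotientGroup.mk (w s)) (QuotientGroup.mk (w i)) y ∧
      Rel G (QuotientGroup.mk 1 : G ⧸ H) (QuotientGroup.mk (w j)) (QuotientGroup.mk 1) y}.ncard = k i j := by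
  classical
  have := Fintype.ofFinite G
  have := Fintype.ofFinite H
  have huniq : ∀ g i j, g ∈ DoubleCoset.doubleCoset (w i) (H : Set G) (H : Set G) →
      g ∈ DoubleCoset.doubleCoset (w j) (H : Set G) (H : Set G) → i = j := by
    intro g i j hi hj
    apply hdis
    have h1 := DoubleCoset.doubleCoset_eq_of_mem hi
    rw [← h1, DoubleCoset.doubleCoset_eq_of_mem hj]
    exact DoubleCoset.mem_doubleCoset_self H H (w j)
  -- the predicate
  let Q : G ⧸ H → Prop := fun z =>
    Rel G (QuotientGroup.mk 1 : G ⧸ H) (QuotientGroup.mk (w j)) (QuotientGroup.mk 1) (w i • z)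
  have hrel : ∀ g x y : G, Rel G (QuotientGroup.mk 1 : G ⧸ H) (QuotientGroup.mk g) (QuotientGroup.mk x)
      (QuotientGroup.mk y) ↔ x⁻¹ * y ∈ DoubleCoset.doubleCoset g (H : Set G) (H : Set G) := by
    intro g x y
    rw [rel_iff, DoubleCoset.mem_doubleCoset]
    simp only [SetLike.mem_coe]
  have hQ : ∀ h : H, Q (h • (QuotientGroup.mk t : G ⧸ H)) ↔ τ i (pt h) = j := by
    intro h
    have h1 : w i • h • (QuotientGroup.mk t : G ⧸ H) = QuotientGroup.mk (w i * h * t) := by
      show (QuotientGroup.mk (w i * ((h : G) * t)) : G ⧸ H) = _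
      rw [mul_assoc]
    show Rel G (QuotientGroup.mk 1 : G ⧸ H) (QuotientGroup.mk (w j)) (QuotientGroup.mk 1)
      (w i • h • (QuotientGroup.mk t : G ⧸ H)) ↔ _
    rw [h1, hrel, inv_one, one_mul]
    constructor
    · intro h2
      exact huniq _ _ _ (hτ i h) h2
    · intro h2
      rw [← h2]
      exact hτ i h
  have h1 := card_fib (K := H) (QuotientGroup.mk t : G ⧸ H) Q
  -- the left hand side
  have h2 : (Finset.univ.filter fun h : H => Q (h • (QuotientGroup.mk t : G ⧸ H))).card = N * k i j := by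
    rw [Finset.filter_congr fun h _ => hQ h, ← hk i j,
      Finset.card_eq_sum_card_fiberwise (f := pt) (t := Finset.univ.filter fun q => τ i q = j)]
    · have h3 : ∀ q ∈ Finset.univ.filter (fun q => τ i q = j),
          ((Finset.univ.filter fun h : H => τ i (pt h) = j).filter fun h => pt h = q).card = N := by
        intro q hq
        rw [← hpt q, Nat.card_eq_fintype_card, Fintype.card_subtype, Finset.filter_filter]
        congr 1
        ext h
        simp only [Finset.mem_filter, Finset.mem_univ, true_and, and_iff_right_iff_imp]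
        rintro rfl
        exact (Finset.mem_filter.1 hq).2
      rw [Finset.sum_congr rfl h3, Finset.sum_const, smul_eq_mul, mul_comm]
    · intro h hh
      exact Finset.mem_coe.2 (Finset.mem_filter.2 ⟨Finset.mem_univ _, (Finset.mem_filter.1 (Finset.mem_coe.1 hh)).2⟩)
  -- the stabilizer
  have hH : Nat.card H = n * N := by
    rw [Nat.card_eq_fintype_card, ← Finset.card_univ,
      Finset.card_eq_sum_card_fiberwise (f := pt) (t := Finset.univ) (fun _ _ => Finset.mem_coe.2 (Finset.mem_univ _))]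
    have h3 : ∀ q ∈ (Finset.univ : Finset (Fin n)), ((Finset.univ : Finset H).filter fun h => pt h = q).card = N := by
      intro q _
      rw [← hpt q, Nat.card_eq_fintype_card, Fintype.card_subtype]
    rw [Finset.sum_congr rfl h3, Finset.sum_const, smul_eq_mul, Finset.card_univ, Fintype.card_fin]
  have hst : Nat.card (stabilizer H (QuotientGroup.mk t : G ⧸ H)) = N := by
    have h3 : Nat.card (orbit H (QuotientGroup.mk t : G ⧸ H)) = n := by
      have h4 : sz H t⁻¹ = n := by rw [sz_inv, sz_of_mem_doubleCoset H hts, hn]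
      rw [← h4]
      unfold sz pnt
      rw [inv_inv]
    have h5 : Nat.card (orbit H (QuotientGroup.mk t : G ⧸ H)) * Nat.card (stabilizer H (QuotientGroup.mk t : G ⧸ H)) =
        Nat.card H := by
      rw [← Nat.card_prod]
      exact Nat.card_congr (orbitProdStabilizerEquivGroup H (QuotientGroup.mk t : G ⧸ H))
    have hn0 : 0 < n := by
      rw [← hn]; exact Cfsg.Agent.HN.Count.sz_pos H (w s)
    rw [h3, hH] at h5
    exact Nat.eq_of_mul_eq_mul_left hn0 h5
  rw [h2, hst] at h1
  have hN : 0 < N := by rw [← hst]; exact Nat.card_pos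
  have h6 := Nat.eq_of_mul_eq_mul_left hN h1
  rw [h6]
  -- the two sets
  have h10 : {y : G ⧸ H | Rel G (QuotientGroup.mk 1 : G ⧸ H) (QuotientGroup.mk (w s)) (QuotientGroup.mk (w i)) y ∧
      Rel G (QuotientGroup.mk 1 : G ⧸ H) (QuotientGroup.mk (w j)) (QuotientGroup.mk 1) y} =
      (fun z => w i • z) '' {z | z ∈ orbit H (QuotientGroup.mk t : G ⧸ H) ∧ Q z} := ?_
  · rw [h10, Set.ncard_image_of_injective _ (MulAction.injective (β := G ⧸ H) (w i))]
  ext y
  constructor
  · rintro ⟨h7, h8⟩
    refine ⟨(w i)⁻¹ • y, ⟨?_, ?_⟩, smul_inv_smul _ _⟩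
    · obtain ⟨y0, rfl⟩ := QuotientGroup.mk_surjective y
      rw [hrel] at h7
      obtain ⟨a, ha, b, hb, e⟩ := DoubleCoset.mem_doubleCoset.1 h7
      obtain ⟨c, hc, d, hd, e'⟩ := DoubleCoset.mem_doubleCoset.1 hts
      refine ⟨⟨a * c⁻¹, H.mul_mem ha (H.inv_mem hc)⟩, ?_⟩
      show (QuotientGroup.mk (a * c⁻¹ * t) : G ⧸ H) = QuotientGroup.mk ((w i)⁻¹ * y0)
      rw [QuotientGroup.eq, e, e']
      have e2 : (a * c⁻¹ * (c * w s * d))⁻¹ * (a * w s * b) = d⁻¹ * b := by group
      rw [e2]
      exact H.mul_mem (H.inv_mem hd) hb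
    · show Rel G (QuotientGroup.mk 1 : G ⧸ H) (QuotientGroup.mk (w j)) (QuotientGroup.mk 1) (w i • (w i)⁻¹ • y)
      rw [smul_inv_smul]
      exact h8
  · rintro ⟨z, ⟨⟨h, rfl⟩, h9⟩, rfl⟩
    refine ⟨?_, h9⟩
    show Rel G (QuotientGroup.mk 1 : G ⧸ H) (QuotientGroup.mk (w s)) (QuotientGroup.mk (w i))
      (QuotientGroup.mk (w i * ((h : G) * t)))
    rw [hrel]
    obtain ⟨c, hc, d, hd, e'⟩ := DoubleCoset.mem_doubleCoset.1 hts
    refine DoubleCoset.mem_doubleCoset.2 ⟨h * c, H.mul_mem h.2 hc, d, hd, ?_⟩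
    rw [e']
    group

end table

section one

variable {G : Type u} [Group G] [Fintype G] {X : Type u} [MulAction G X] [Fintype X] {r : ℕ}
  {a : X} {b : Fin r → X} {k : Fin r → ℕ}

/-- the principal character -/
theorem isSph_one (h : Sub G X a b k) {ε : IrrCharacter G} (hε : (ε : G → ℂ) = 1) : IsSph G a b ε (fun _ => 1) := by
  classical
  intro j
  have := h.trans
  have hd : charDegree (ε : G → ℂ) = 1 := by
    have h1 := Blocks.Basic.irr_one_eq_charDegree ε.2
    rw [hε] at h1
    have h2 : ((charDegree (1 : G → ℂ) : ℕ) : ℂ) = ((1 : ℕ) : ℂ) := by rw [← h1]; simp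
    rw [hε]
    exact_mod_cast h2
  rw [hd]
  unfold E
  rw [hε]
  obtain ⟨g₀, hg₀⟩ := MulAction.exists_smul_eq G (b j) a
  have h1 : (∑ g : G, if g • b j = a then (starRingEnd ℂ) ((1 : G → ℂ) g) else 0) = Nat.card (stabilizer G a) := by
    simp only [Pi.one_apply, map_one]
    rw [Finset.sum_boole, Nat.card_eq_fintype_card]
    congr 1
    rw [← Fintype.card_coe]
    refine Fintype.card_congr
      { toFun := fun g => ⟨g.1 * g₀⁻¹, ?_⟩
        invFun := fun s => ⟨s.1 * g₀, ?_⟩
        left_inv := fun g => Subtype.ext (inv_mul_cancel_right _ _)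
        right_inv := fun s => Subtype.ext (mul_inv_cancel_right _ _) }
    · have h2 := (Finset.mem_filter.1 g.2).2
      have h3 : g₀⁻¹ • a = b j := by rw [← hg₀, inv_smul_smul]
      rw [mem_stabilizer_iff, mul_smul, h3, h2]
    · refine Finset.mem_filter.2 ⟨Finset.mem_univ _, ?_⟩
      rw [mul_smul, hg₀, mem_stabilizer_iff.1 s.2]
  rw [h1]
  have h2 : Nat.card X * Nat.card (stabilizer G a) = Nat.card G := by
    rw [← Nat.card_congr (orbitProdStabilizerEquivGroup G a), Nat.card_prod]
    congr 1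
    rw [orbit_eq_univ]
    exact (Nat.card_congr (Equiv.Set.univ X)).symm
  have hX0 : (Nat.card X : ℂ) ≠ 0 := by exact_mod_cast h.card_pos.ne'
  have hS0 : (Nat.card (stabilizer G a) : ℂ) ≠ 0 := by exact_mod_cast Nat.card_pos.ne'
  rw [← h2]
  push_cast
  rw [Pi.one_apply]
  field_simp

end one

end Cfsg.Agent.H894.PQ.Hecke
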