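import Cfsg.Agent.H653.Sieve.Fast
import Cfsg.Agent.H653.Sieve.Tab

/-!
# The sieve of helper653 with clauses `m ∣ χ(1)`, `¬ n ∣ χ(1)` (helper894, for S4612)

`Cert` : a certificate for a list of pairs `(m, n)`: some nonprincipal irreducible character has degree divisible by `m` and
not by `n`, for a pair `(m, n)` of the list.
-/

set_option autoImplicit false
set_option linter.unusedSectionVars false

namespace Cfsg.Agent.H894.PQ.LP

open Cfsg Cfsg.Agent.Characters.Core Cfsg.Agent.H653.Sys Cfsg.Agent.H653.Sieve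
open Cfsg.Agent.H590.NB.Fast (bit pre maskOK allV_of_empty exists_empty)

universe u

/-- Some degree is divisible by `m` and not by `n`, for some pair `(m, n)`. -/
def Ex (S : Type u) [Group S] (c : List (ℕ × ℕ)) : Prop :=
  ∃ mn ∈ c, ∃ χ : IrrCharacter S, mn.1 ∣ charDegree (χ : S → ℂ) ∧ ¬ mn.2 ∣ charDegree (χ : S → ℂ)

/-- a certificate: the clause, and the coefficients -/
structure Cert where
  c : List (ℕ × ℕ)
  a : ℤ
  cs : List Cf
  ms : List ℤ

def Cert.Q (ct : Cert) (d : ℕ) : Bool := ct.c.any fun mn => Nat.beq (d % mn.1) 0 && !Nat.beq (d % mn.2) 0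

theorem Cert.ex_of_Q {S : Type u} [Group S] {ct : Cert} (h : ∃ χ : IrrCharacter S, ct.Q (deg χ) = true) : Ex S ct.c := by
  obtain ⟨χ, h⟩ := h
  rw [Cert.Q, List.any_eq_true] at h
  obtain ⟨mn, hmn, h1⟩ := h
  rw [Bool.and_eq_true, Bool.not_eq_true', Bool.eq_false_iff] at h1
  refine ⟨mn, hmn, χ, Nat.dvd_of_mod_eq_zero (Nat.eq_of_beq_eq_true h1.1), fun h2 => h1.2 ?_⟩
  rw [show deg χ % mn.2 = 0 from Nat.mod_eq_zero_of_dvd h2]
  rfl

/-- The check of a certificate on the table. -/
def chkT (N : ℕ) (Fs : List Fam) (Cs : List Cond) (T : List (ℕ × List ℤ)) (ct : Cert) : Bool :=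
  sgOK Cs ct.ms && certOK N ct.a ct.cs (exOf Cs ct.ms) Fs &&
    T.all fun x => ct.Q x.1 || decide (0 ≤ ct.a * x.1 * x.1 + quad x.1 ct.cs x.2 + exSum x.1 (exOf Cs ct.ms))

variable {S : Type u} [Group S] [Fintype (IrrCharacter S)] {lab : S → ℕ} {N : ℕ} {L : List (ℕ × ℕ)}
    {Fs : List Fam} {Cs : List Cond} {T : List (ℕ × List ℤ)}

/-- **A certificate proves a clause.** -/
theorem ex_of_tab [Finite S] (C : Tab S lab N L Fs Cs T) (ct : Cert) (h : chkT N Fs Cs T ct = true) : Ex S ct.c := by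
  rw [chkT, Bool.and_eq_true, Bool.and_eq_true] at h
  obtain ⟨⟨h1, h2⟩, h3⟩ := h
  obtain ⟨Ws, hs, hT⟩ := C.sys
  obtain ⟨χ, -, hχ⟩ := exists_of_pos C.conj C.lone N C.card hs (exOf Cs ct.ms) (exOf_holds C.cond h1) ct.a ct.cs
    ct.Q h2 (by
      intro χ hχ hQ
      rw [List.all_eq_true] at h3
      have h4 := h3 _ (hT χ hχ)
      rw [Bool.or_eq_true, decide_eq_true_eq] at h4
      rcases h4 with h4 | h4
      · exact absurd (h4.symm.trans hQ) (by simp)
      · exact h4)
  exact Cert.ex_of_Q ⟨χ, hχ⟩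

def okAll (N : ℕ) (Fs : List Fam) (Cs : List Cond) (d : ℕ) : List Cert → Bool
  | [] => true
  | ct :: L => okD N ct.a ct.cs (exOf Cs ct.ms) Fs ct.Q d && okAll N Fs Cs d L

theorem okAll_spec {N : ℕ} {Fs : List Fam} {Cs : List Cond} {d : ℕ} : ∀ {L : List Cert}, okAll N Fs Cs d L = true →
    ∀ ct ∈ L, okD N ct.a ct.cs (exOf Cs ct.ms) Fs ct.Q d = true
  | [], _, c, hc => by simp at hc
  | c' :: L, h, c, hc => by
    rw [okAll, Bool.and_eq_true] at h
    rcases List.mem_cons.1 hc with rfl | hc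
    · exact h.1
    · exact okAll_spec h.2 c hc

/-- the check -/
def chkAll (N : ℕ) (L : List (ℕ × ℕ)) (Ds : List PD) (Cs : List Cond) (ms : List (ℕ × ℕ)) (cts : List Cert) : Bool :=
  allDiv N (fun d => bif pre ms d then okAll N (Ds.map PD.fam) Cs d cts else true) L 1

def headOK (N : ℕ) (Ds : List PD) (Cs : List Cond) (cts : List Cert) : Bool :=
  cts.all fun ct => sgOK Cs ct.ms && certOK N ct.a ct.cs (exOf Cs ct.ms) (Ds.map PD.fam)

/-- **All the clauses at once.** -/
theorem ex_of_chkAll [Finite S] {Ds : List PD} (C : Ctx S lab N L (Ds.map PD.fam) Cs) {ms : List (ℕ × ℕ)}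
    (hm : maskOK Ds ms = true) {cts : List Cert} (h1 : headOK N Ds Cs cts = true)
    (h2 : chkAll N L Ds Cs ms cts = true) : ∀ ct ∈ cts, Ex S ct.c := by
  intro ct hct
  obtain ⟨Ws, hs⟩ := C.sys
  have hpr : ∀ pa ∈ L, pa.1.Prime := by
    intro pa hpa
    have := List.all_eq_true.1 C.pr pa hpa
    simpa using this
  have h0 := List.all_eq_true.1 h1 ct hct
  rw [Bool.and_eq_true] at h0
  obtain ⟨χ, h3, h4⟩ := exists_of_all C.conj C.lone N C.card C.one hs (exOf Cs ct.ms) (exOf_holds C.cond h0.1) ct.a ct.cs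
    ct.Q h0.2 fun d hd hlt => by
      have h5 := allDiv_spec hpr h2 d (by rw [C.fac]; exact hd) (by rwa [one_mul])
      rw [one_mul] at h5
      cases hp : pre ms d with
      | true =>
        rw [hp, cond_true] at h5
        exact okAll_spec h5 ct hct
      | false =>
        obtain ⟨F, hF, h6⟩ := exists_empty hm hp
        rw [H653.Sys.okD]
        cases Nat.ble N (d * d) with
        | true => rfl
        | false =>
          cases Nat.beq d 1 with
          | true => rfl
          | false =>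
            rw [cond_false, cond_false]
            exact allV_of_empty hF h6 _
  exact Cert.ex_of_Q ⟨χ, h4⟩

end Cfsg.Agent.H894.PQ.LP
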