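import Cfsg.Agent.H894.PQ.Hecke
import Cfsg.Agent.H678.DG.Sph
import Cfsg.Agent.H766.PQ.A01
import Cfsg.Agent.Characters.CentralCharacter

/-!
# S4612: the kernel of the principal block of a normal subgroup (helper894)

`Γ` acts on `X`, `G` is a normal subgroup of `Γ`.

* `F_conj` : the kernel of the principal `p`-block of `G` on `X` is invariant under `Γ`;
* `F_act` : it acts as `1` or `0` on an irreducible `Γ`-submodule of the functions on `X`.
-/

set_option autoImplicit false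
set_option linter.unusedSectionVars false

open Cfsg

namespace Cfsg.Agent.H894.PQ.Hecke

open Cfsg.Agent.H317.PQ Cfsg.Agent.Blocks.Basic Cfsg.Agent.Blocks.Local Cfsg.Agent.H593.IMFrame
open Cfsg.Agent.Characters.Core (isIrr_isCharacter finite_irr isIrr_isClassFunction isIrr_apply_one_ne_zero
  classInner_sum_nsmul_irr isIrreducible_of_isIrrCharacter exists_nat_comb)
open scoped ComplexConjugate

universe u

section normal

variable {Γ : Type u} [Group Γ] {G : Subgroup Γ} [hN : G.Normal] {p : ℕ}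

/-- the conjugate character -/
def cj (γ : Γ) (χ : IrrCharacter G) : IrrCharacter G :=
  ⟨(χ : G → ℂ) ∘ (MulAut.conjNormal γ : G ≃* G), Characters.Core.isIrr_comp (MulAut.conjNormal γ : G ≃* G).toMonoidHom
    (MulAut.conjNormal γ : G ≃* G).surjective χ.2⟩

theorem cj_apply (γ : Γ) (χ : IrrCharacter G) (g : G) :
    ((cj γ χ : IrrCharacter G) : G → ℂ) g = (χ : G → ℂ) (MulAut.conjNormal γ g) := rfl

theorem cj_cj (γ δ : Γ) (χ : IrrCharacter G) (h : γ * δ = 1) : cj δ (cj γ χ) = χ := by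
  apply Subtype.ext
  funext g
  rw [cj_apply, cj_apply]
  have h1 : MulAut.conjNormal γ (MulAut.conjNormal δ g) = MulAut.conjNormal (γ * δ) g := by
    rw [map_mul]
    rfl
  rw [h1, h, map_one]
  rfl

theorem cj_mem (γ : Γ) (χ : IrrCharacter G) : cj γ χ ∈ B0 p G ↔ χ ∈ B0 p G :=
  H766.PQ.mem_B0_equiv (MulAut.conjNormal γ : G ≃* G) rfl

theorem coeff_conj (γ : Γ) (g : G) :
    blockCoeff (B0 p G) (MulAut.conjNormal γ g) = blockCoeff (B0 p G) g := by
  rw [blockCoeff_def, blockCoeff_def]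
  congr 1
  refine finsum_mem_eq_of_bijOn (cj γ) ⟨fun χ hχ => (cj_mem γ χ).2 hχ, ?_, ?_⟩ ?_
  · intro χ _ ψ _ h
    rw [← cj_cj γ γ⁻¹ χ (mul_inv_cancel γ), ← cj_cj γ γ⁻¹ ψ (mul_inv_cancel γ), h]
  · intro χ hχ
    exact ⟨cj γ⁻¹ χ, (cj_mem γ⁻¹ χ).2 hχ, cj_cj γ⁻¹ γ χ (inv_mul_cancel γ)⟩
  · intro χ _
    rw [cj_apply, cj_apply, map_one]

variable [Fintype G] {X : Type u} [MulAction Γ X] [Fintype X]

theorem F_conj [DecidableEq X] (γ : Γ) (x y : X) : F p G (γ • x) (γ • y) = F p G x y := by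
  unfold F
  refine (Fintype.sum_equiv (MulAut.conjNormal γ : G ≃* G).toEquiv _ _ fun g => ?_).symm
  have h1 : (MulAut.conjNormal γ g : G) • γ • y = γ • g • y := by
    show ((MulAut.conjNormal γ g : G) : Γ) • γ • y = γ • (g : Γ) • y
    rw [MulAut.conjNormal_apply, smul_smul, smul_smul]
    congr 1
    group
  show _ = if (MulAut.conjNormal γ g : G) • γ • y = γ • x then blockCoeff (B0 p G) (MulAut.conjNormal γ g) else 0
  rw [h1, coeff_conj]
  simp only [smul_left_cancel_iff]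

end normal

section idem

variable {G : Type u} [Group G] [Fintype G] {X : Type u} [MulAction G X] [Fintype X] [DecidableEq X] {p : ℕ}

/-- the kernel is idempotent -/
theorem F_mul_F (x z : X) : ∑ y : X, F p G x y * F p G y z = F p G x z := by
  have : Finite (IrrCharacter G) := finite_irr
  have h1 : ∀ y : X, F p G x y * F p G y z =
      ∑ ψ ∈ (Set.toFinite (B0 p G)).toFinset, E (ψ : G → ℂ) x y * F p G y z := by
    intro y
    rw [F_eq x y, finsum_mem_eq_finite_toFinset_sum _ (Set.toFinite _), Finset.sum_mul]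
  simp only [h1]
  rw [Finset.sum_comm, F_eq x z, finsum_mem_eq_finite_toFinset_sum _ (Set.toFinite _)]
  refine Finset.sum_congr rfl fun ψ hψ => ?_
  rw [E_mul_F, if_pos ((Set.toFinite (B0 p G)).mem_toFinset.1 hψ)]

/-- the operator -/
theorem sum_F (v : X → ℂ) (x : X) : ∑ y, F p G x y * v y = ∑ g : G, blockCoeff (B0 p G) g * v (g⁻¹ • x) := by
  unfold F
  simp only [Finset.sum_mul]
  rw [Finset.sum_comm]
  refine Finset.sum_congr rfl fun g _ => ?_
  rw [Finset.sum_eq_single (g⁻¹ • x)]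
  · rw [if_pos (smul_inv_smul g x)]
  · intro y _ hy
    rw [if_neg (fun h => hy (by rw [← h, inv_smul_smul])), zero_mul]
  · intro h
    exact absurd (Finset.mem_univ _) h

/-- the sum of the coefficients -/
theorem sum_coeff (hp : p.Prime) : ∑ g : G, blockCoeff (B0 p G) g = 1 := by
  classical
  have : Finite (IrrCharacter G) := finite_irr
  obtain ⟨M, hM⟩ := Cfsg.Agent.Blocks.ExistsModular.exists_isPModular hp
  have hMp : M.IsPrime := isPrime_of_isPModular hM
  set S : Finset (IrrCharacter G) := (Set.toFinite (B0 p G)).toFinset with hS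
  have h1 : ∀ g : G, blockCoeff (B0 p G) g =
      ∑ ψ ∈ S, (ψ : G → ℂ) 1 * ((Nat.card G : ℂ)⁻¹ * ((1 : G → ℂ) g * conj ((ψ : G → ℂ) g))) := by
    intro g
    rw [blockCoeff_def, finsum_mem_eq_finite_toFinset_sum _ (Set.toFinite _), Finset.mul_sum]
    refine Finset.sum_congr rfl fun ψ _ => ?_
    rw [Pi.one_apply]
    ring
  have h2 : ∀ ψ : IrrCharacter G, ∑ g : G, (ψ : G → ℂ) 1 * ((Nat.card G : ℂ)⁻¹ * ((1 : G → ℂ) g * conj ((ψ : G → ℂ) g))) =
      (ψ : G → ℂ) 1 * classInner (1 : G → ℂ) (ψ : G → ℂ) := by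
    intro ψ
    rw [Cfsg.Agent.Characters.Core.classInner_def, Nat.card_eq_fintype_card, ← Finset.mul_sum, ← Finset.mul_sum]
  rw [Finset.sum_congr rfl fun g _ => h1 g, Finset.sum_comm, Finset.sum_congr rfl fun ψ _ => h2 ψ]
  let ε : IrrCharacter G := ⟨1, Cfsg.Agent.Characters.Core.isIrr_one⟩
  have hε : ε ∈ S := by
    rw [hS, Set.Finite.mem_toFinset, B0_eq hp hM]
    exact sameBlock_refl _
  rw [Finset.sum_eq_single_of_mem ε hε]
  · have h3 : classInner (1 : G → ℂ) (ε : G → ℂ) = 1 :=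
      Cfsg.Agent.Characters.Core.classInner_irr_self Cfsg.Agent.Characters.Core.isIrr_one
    rw [h3, mul_one]
    rfl
  · intro ψ _ hψ
    rw [Cfsg.Agent.Characters.Core.classInner_irr_ne Cfsg.Agent.Characters.Core.isIrr_one ψ.2
      (fun h => hψ (Subtype.ext h.symm)), mul_zero]

theorem sum_F_one (hp : p.Prime) (x : X) : ∑ y, F p G x y = 1 := by
  have h1 := sum_F (p := p) (G := G) (fun _ : X => (1 : ℂ)) x
  simp only [mul_one] at h1
  rw [h1, sum_coeff hp]

end idem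

section act

variable {Γ : Type u} [Group Γ] [Fintype Γ] {G : Subgroup Γ} [hN : G.Normal] [Fintype G] {X : Type u} [MulAction Γ X]
  [Fintype X] {p : ℕ}

open H678.DG.Sph in
/-- the kernel acts as a scalar -/
theorem F_scalar [DecidableEq X] {V : Submodule ℂ (X → ℂ)} (hV : ∀ (g : Γ), ∀ φ ∈ V, (fun x => φ (g⁻¹ • x)) ∈ V)
    {χ : IrrCharacter Γ} (hχ : (χ : Γ → ℂ) = (rep V hV).character) :
    ∀ v ∈ V, ∀ x, ∑ y, F p G x y * v y =
      ((∑ g : G, blockCoeff (B0 p G) g * (χ : Γ → ℂ) g) / (χ : Γ → ℂ) 1) * v x := by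
  classical
  intro v hv x
  have hirr : (rep V hV).IsIrreducible := isIrreducible_of_isIrrCharacter _ (hχ ▸ χ.2)
  let f : Γ → ℂ := fun γ => if h : γ ∈ G then blockCoeff (B0 p G) ⟨γ, h⟩ else 0
  have hf : ∀ x g, f (g * x * g⁻¹) = f x := by
    intro x g
    by_cases h : x ∈ G
    · have h' : g * x * g⁻¹ ∈ G := hN.conj_mem x h g
      show dite _ _ _ = dite _ _ _
      rw [dif_pos h, dif_pos h', ← coeff_conj g ⟨x, h⟩]
      rfl
    · have h' : g * x * g⁻¹ ∉ G := by
        intro h'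
        apply h
        have h2 := hN.conj_mem _ h' g⁻¹
        have e : g⁻¹ * (g * x * g⁻¹) * g⁻¹⁻¹ = x := by group
        rwa [e] at h2
      show dite _ _ _ = dite _ _ _
      rw [dif_neg h, dif_neg h']
  have hsum : ∀ F' : Γ → ℂ, ∑ γ, f γ * F' γ = ∑ g : G, blockCoeff (B0 p G) g * F' g := by
    intro F'
    have e1 : ∑ γ, f γ * F' γ = ∑ γ ∈ Finset.univ.filter (fun γ => γ ∈ G), f γ * F' γ := by
      refine (Finset.sum_filter_of_ne fun γ _ h => ?_).symm
      by_contra h'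
      apply h
      show (dite _ _ _ : ℂ) * F' γ = 0
      rw [dif_neg h', zero_mul]
    rw [e1, Finset.sum_subtype (p := fun γ => γ ∈ G) _ (by intro γ; simp) (fun γ => f γ * F' γ)]
    refine Finset.sum_congr rfl fun g _ => ?_
    show (dite _ _ _ : ℂ) * F' g = _
    rw [dif_pos g.2]
  have h1 := Characters.CentralCharacter.sum_classFunction_smul_eq (rep V hV) f hf
  have h2 := congrArg (fun T : V →ₗ[ℂ] V => ((T ⟨v, hv⟩ : V) : X → ℂ) x) h1
  have h3 : (((∑ γ, f γ • (rep V hV γ : V →ₗ[ℂ] V)) ⟨v, hv⟩ : V) : X → ℂ) x = ∑ γ, f γ * v (γ⁻¹ • x) := by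
    rw [LinearMap.sum_apply, Submodule.coe_sum, Finset.sum_apply]
    exact Finset.sum_congr rfl fun γ _ => rfl
  have h4 : Module.finrank ℂ V = (χ : Γ → ℂ) 1 := by
    rw [hχ, Representation.char_one]
  have h5 : ∑ γ, f γ * v (γ⁻¹ • x) = (∑ γ, f γ * (rep V hV).character γ) / (Module.finrank ℂ V : ℂ) * v x := by
    rw [← h3]
    exact h2
  rw [sum_F]
  have h6 := hsum (fun γ => v (γ⁻¹ • x))
  have h7 := hsum (fun γ => (χ : Γ → ℂ) γ)
  rw [← h7]
  show ∑ g : G, blockCoeff (B0 p G) g * v ((g : Γ)⁻¹ • x) = _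
  rw [← h6, h5, h4, hχ]

open H678.DG.Sph in
open scoped Classical in
/-- **The kernel of the principal block of `G` on an irreducible `Γ`-submodule.** -/
theorem F_act {V : Submodule ℂ (X → ℂ)} (hV : ∀ (g : Γ), ∀ φ ∈ V, (fun x => φ (g⁻¹ • x)) ∈ V)
    {χ : IrrCharacter Γ} (hχ : (χ : Γ → ℂ) = (rep V hV).character) {θ : IrrCharacter G}
    (hθ : classInner (fun g : G => (χ : Γ → ℂ) g) (θ : G → ℂ) ≠ 0) {v : X → ℂ} (hv : v ∈ V) (x : X) :
    ∑ y, F p G x y * v y = if θ ∈ B0 p G then v x else 0 := by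
  have hirr : (rep V hV).IsIrreducible := isIrreducible_of_isIrrCharacter _ (hχ ▸ χ.2)
  have hfin := finite_irr (G := G)
  have := Fintype.ofFinite (IrrCharacter G)
  have hs := F_scalar (G := G) (p := p) hV hχ
  set c : ℂ := (∑ g : G, blockCoeff (B0 p G) g * (χ : Γ → ℂ) g) / (χ : Γ → ℂ) 1 with hc
  -- idempotent
  have hcc : c * c = c := by
    have h1 : 0 < Module.finrank ℂ V := Characters.CentralCharacter.finrank_pos_of_irreducible (rep V hV)
    have h2 : Nontrivial V := Module.finrank_pos_iff.1 h1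
    obtain ⟨w, hw⟩ := exists_ne (0 : V)
    have h3 : ∃ z, (w : X → ℂ) z ≠ 0 := by
      by_contra h4
      push Not at h4
      exact hw (Subtype.ext (funext h4))
    obtain ⟨z, hz⟩ := h3
    have h4 : ∑ y, F p G z y * (∑ t, F p G y t * (w : X → ℂ) t) = ∑ t, F p G z t * (w : X → ℂ) t := by
      simp only [Finset.mul_sum]
      rw [Finset.sum_comm]
      refine Finset.sum_congr rfl fun t _ => ?_
      rw [← F_mul_F, Finset.sum_mul]
      exact Finset.sum_congr rfl fun y _ => by ring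
    have h5 : ∑ y, F p G z y * (∑ t, F p G y t * (w : X → ℂ) t) = c * (c * (w : X → ℂ) z) := by
      rw [Finset.sum_congr rfl fun y _ => by rw [hs w w.2 y]]
      have e : ∑ y, F p G z y * (c * (w : X → ℂ) y) = c * ∑ y, F p G z y * (w : X → ℂ) y := by
        rw [Finset.mul_sum]
        exact Finset.sum_congr rfl fun y _ => by ring
      rw [e, hs w w.2 z]
    rw [h5, hs w w.2 z, ← mul_assoc] at h4
    exact mul_right_cancel₀ hz h4
  -- the multiplicities
  have hG : (Nat.card G : ℂ) ≠ 0 := Cfsg.Agent.Characters.Core.card_ne_zero_complex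
  obtain ⟨m, hm⟩ := exists_nat_comb (Cfsg.Agent.Characters.Core.isCharacter_comp G.subtype
    (isIrr_isCharacter χ.2))
  have hm' : (fun g : G => (χ : Γ → ℂ) g) = ∑ ψ : IrrCharacter G, m ψ • (ψ : G → ℂ) := hm
  have hin : ∀ ψ : IrrCharacter G, classInner (fun g : G => (χ : Γ → ℂ) g) (ψ : G → ℂ) = m ψ := by
    intro ψ
    rw [hm']
    exact classInner_sum_nsmul_irr m ψ
  have hone : (χ : Γ → ℂ) 1 = ((∑ ψ, m ψ * charDegree (ψ : G → ℂ) : ℕ) : ℂ) := by
    have h1 := congrFun hm' 1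
    have h2 : (χ : Γ → ℂ) ((1 : G) : Γ) = _ := h1
    rw [Subgroup.coe_one] at h2
    rw [h2, Finset.sum_apply]
    push_cast
    refine Finset.sum_congr rfl fun ψ _ => ?_
    rw [Pi.smul_apply, nsmul_eq_mul, irr_one_eq_charDegree ψ.2]
  set S : Finset (IrrCharacter G) := (Set.toFinite (B0 p G)).toFinset with hS
  have hnum : ∑ g : G, blockCoeff (B0 p G) g * (χ : Γ → ℂ) g = ((∑ ψ ∈ S, m ψ * charDegree (ψ : G → ℂ) : ℕ) : ℂ) := by
    have h1 : ∀ g : G, blockCoeff (B0 p G) g * (χ : Γ → ℂ) g =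
        ∑ ψ ∈ S, (charDegree (ψ : G → ℂ) : ℂ) * ((Nat.card G : ℂ)⁻¹ * ((χ : Γ → ℂ) g * conj ((ψ : G → ℂ) g))) := by
      intro g
      rw [blockCoeff_def, finsum_mem_eq_finite_toFinset_sum _ (Set.toFinite _), Finset.mul_sum, Finset.sum_mul]
      refine Finset.sum_congr rfl fun ψ _ => ?_
      rw [irr_one_eq_charDegree ψ.2]
      ring
    rw [Finset.sum_congr rfl fun g _ => h1 g, Finset.sum_comm]
    push_cast
    refine Finset.sum_congr rfl fun ψ _ => ?_
    rw [← hin ψ, Cfsg.Agent.Characters.Core.classInner_def, Nat.card_eq_fintype_card, ← Finset.mul_sum,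
      ← Finset.mul_sum]
    ring
  have hmθ : 0 < m θ := by
    rw [hin] at hθ
    exact Nat.pos_of_ne_zero fun h => hθ (by rw [h, Nat.cast_zero])
  have hθd : 0 < charDegree (θ : G → ℂ) := charDegree_pos θ.2
  have hpos : 0 < ∑ ψ, m ψ * charDegree (ψ : G → ℂ) :=
    lt_of_lt_of_le (Nat.mul_pos hmθ hθd) (Finset.single_le_sum (f := fun ψ : IrrCharacter G => m ψ * charDegree (ψ : G → ℂ))
      (fun _ _ => Nat.zero_le _) (Finset.mem_univ θ))
  have hce : c = ((∑ ψ ∈ S, m ψ * charDegree (ψ : G → ℂ) : ℕ) : ℂ) / ((∑ ψ, m ψ * charDegree (ψ : G → ℂ) : ℕ) : ℂ) := by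
    rw [hc, hnum, hone]
  rw [hs v hv x]
  have hposC : ((∑ ψ, m ψ * charDegree (ψ : G → ℂ) : ℕ) : ℂ) ≠ 0 := by exact_mod_cast hpos.ne'
  split_ifs with hB
  · -- c ≠ 0
    have hne : c ≠ 0 := by
      rw [hce]
      refine div_ne_zero ?_ hposC
      have h1 : m θ * charDegree (θ : G → ℂ) ≤ ∑ ψ ∈ S, m ψ * charDegree (ψ : G → ℂ) :=
        Finset.single_le_sum (f := fun ψ : IrrCharacter G => m ψ * charDegree (ψ : G → ℂ))
          (fun _ _ => Nat.zero_le _) ((Set.toFinite (B0 p G)).mem_toFinset.2 hB)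
      have h2 := Nat.mul_pos hmθ hθd
      exact_mod_cast (by omega : ∑ ψ ∈ S, m ψ * charDegree (ψ : G → ℂ) ≠ 0)
    have h1 : c = 1 := mul_right_cancel₀ hne (by rw [hcc, one_mul])
    rw [h1, one_mul]
  · have hne : c ≠ 1 := by
      intro h1
      rw [hce, div_eq_one_iff_eq hposC] at h1
      have h2 : ∑ ψ ∈ S, m ψ * charDegree (ψ : G → ℂ) = ∑ ψ, m ψ * charDegree (ψ : G → ℂ) := by exact_mod_cast h1
      have h3 : m θ * charDegree (θ : G → ℂ) + ∑ ψ ∈ S, m ψ * charDegree (ψ : G → ℂ) ≤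
          ∑ ψ, m ψ * charDegree (ψ : G → ℂ) := by
        rw [← Finset.sum_insert (s := S) (a := θ) (f := fun ψ : IrrCharacter G => m ψ * charDegree (ψ : G → ℂ))
          (fun h => hB ((Set.toFinite (B0 p G)).mem_toFinset.1 h))]
        exact Finset.sum_le_sum_of_subset (Finset.subset_univ _)
      have h4 := Nat.mul_pos hmθ hθd
      omega
    have h1 : c = 0 := by
      have h2 : c * (c - 1) = 0 := by rw [mul_sub, hcc, mul_one, sub_self]
      rcases mul_eq_zero.1 h2 with h3 | h3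
      · exact h3
      · exact absurd (sub_eq_zero.1 h3) hne
    rw [h1, zero_mul]

end act

end Cfsg.Agent.H894.PQ.Hecke
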